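import Cfsg.Agent.Lib.CT.SmallFaithful.Orbit
import Cfsg.Agent.Lib.Blocks.GaloisStable

/-!
# The constituents of `χ χ̄` for a small faithful character

The conjugates of a constituent with a fixed vector under the automorphisms moving only the `p`-th
roots of unity meet `χ χ̄` at most once. Together with the character exchanged with `χ` this bounds
the fixed vectors of a constituent by its degree.
-/

set_option autoImplicit false
set_option linter.unusedSectionVars false
set_option linter.style.haveILetI false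

namespace Cfsg.Agent.CT.SmallFaithful

open scoped Cfsg.Agent.Blocks.D1 ComplexConjugate Classical
open Cfsg.Agent.Blocks Cfsg.Agent.CT.SelfCentralP

universe u

variable {p : ℕ} [hp : Fact p.Prime] {G : Type u} [Group G] [Fintype G] {P : Sylow p G}
variable (S : D1.Setup P)

/-- The exponent acting as `k` on the `p`-th roots of unity and trivially on the others. -/
noncomputable def expo (k : (ZMod p)ˣ) : ℕ :=
  Nat.chineseRemainder (hp.out.coprime_iff_not_dvd.mpr P.not_dvd_index) (k : ZMod p).val 1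

theorem expo_cast (k : (ZMod p)ˣ) : ((expo (P := P) k : ℕ) : ZMod p) = k := by
  have h := (Nat.chineseRemainder (hp.out.coprime_iff_not_dvd.mpr P.not_dvd_index)
    (k : ZMod p).val 1).2.1
  rw [← ZMod.natCast_eq_natCast_iff] at h
  rw [expo, h, ZMod.natCast_zmod_val]

theorem expo_modEq (k : (ZMod p)ˣ) : expo (P := P) k ≡ 1 [MOD (P : Subgroup G).index] :=
  (Nat.chineseRemainder (hp.out.coprime_iff_not_dvd.mpr P.not_dvd_index) (k : ZMod p).val 1).2.2

include S in
theorem expo_coprime (k : (ZMod p)ˣ) : (expo (P := P) k).Coprime (Nat.card G) := by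
  rw [card_eq_mul S]
  refine Nat.Coprime.mul_right ?_ ?_
  · rw [Nat.coprime_comm, hp.out.coprime_iff_not_dvd, ← ZMod.natCast_eq_zero_iff, expo_cast]
    exact k.ne_zero
  · have h := expo_modEq (P := P) k
    rw [Nat.coprime_iff_gcd_eq_one, Nat.gcd_comm, Nat.gcd_rec, h, ← Nat.gcd_rec, Nat.gcd_one_right]

include S in
theorem pow_expo_mul (k l : (ZMod p)ˣ) (g : G) :
    g ^ expo (P := P) (k * l) = (g ^ expo (P := P) k) ^ expo (P := P) l := by
  have h : expo (P := P) (k * l) ≡ expo (P := P) k * expo (P := P) l [MOD Nat.card G] := by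
    rw [card_eq_mul S, ← Nat.modEq_and_modEq_iff_modEq_mul
      (hp.out.coprime_iff_not_dvd.mpr P.not_dvd_index)]
    refine ⟨?_, (expo_modEq _).trans ?_⟩
    · rw [← ZMod.natCast_eq_natCast_iff, Nat.cast_mul, expo_cast, expo_cast, expo_cast,
        Units.val_mul]
    · simpa using ((expo_modEq (P := P) k).mul (expo_modEq (P := P) l)).symm
  rw [← pow_mul, ← pow_mod_natCard, h, pow_mod_natCard]

include S in
theorem pow_expo_one (g : G) : g ^ expo (P := P) 1 = g := by
  have h : expo (P := P) 1 ≡ 1 [MOD Nat.card G] := by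
    rw [card_eq_mul S, ← Nat.modEq_and_modEq_iff_modEq_mul
      (hp.out.coprime_iff_not_dvd.mpr P.not_dvd_index)]
    refine ⟨?_, expo_modEq _⟩
    rw [← ZMod.natCast_eq_natCast_iff, expo_cast, Units.val_one, Nat.cast_one]
  rw [← pow_mod_natCard, h, pow_mod_natCard, pow_one]

/-- The conjugate of an irreducible character by `k`. -/
noncomputable def sig (k : (ZMod p)ˣ) (ξ : IrrCharacter G) : IrrCharacter G :=
  powIrr (expo_coprime S k) ξ

theorem sig_apply (k : (ZMod p)ˣ) (ξ : IrrCharacter G) (g : G) :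
    (sig S k ξ : G → ℂ) g = (ξ : G → ℂ) (g ^ expo (P := P) k) := rfl

theorem ell_pow_expo (k : (ZMod p)ˣ) (c : D1.cC P) :
    S.ell (c ^ expo (P := P) k) = k * S.ell c := by
  rw [S.ell_pow, expo_cast]

theorem u_pow_expo (k : (ZMod p)ˣ) (n : D1.cN P) : S.u (n ^ expo (P := P) k) = S.u n := by
  have hpow : ∀ m : ℕ, S.u (n ^ m) = S.u n ^ m := by
    intro m
    induction m with
    | zero => rw [pow_zero, pow_zero, S.u_one]
    | succ m ih => rw [pow_succ, pow_succ, S.u_mul, ih]
  have hidx : S.u n ^ (P : Subgroup G).index = 1 := by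
    rw [← ZMod.pow_card (S.u n), ← pow_mul, ← card_eq_mul S, ← hpow,
      show n ^ Nat.card G = 1 from Subtype.ext (by
        rw [SubmonoidClass.coe_pow, pow_card_eq_one', OneMemClass.coe_one]), S.u_one]
  rw [hpow, pow_eq_pow_mod _ hidx, expo_modEq, ← pow_eq_pow_mod _ hidx, pow_one]

theorem sum_units (F : ZMod p → ℂ) :
    ∑ k : (ZMod p)ˣ, F k + F 0 = ∑ i : ZMod p, F i := by
  classical
  rw [← Finset.sum_erase_add _ _ (Finset.mem_univ (0 : ZMod p))]
  congr 1
  refine Finset.sum_bij (fun k _ => (k : ZMod p)) (fun k _ => Finset.mem_erase.mpr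
    ⟨k.ne_zero, Finset.mem_univ _⟩) (fun a _ b _ e => Units.ext e)
    (fun i hi => ⟨Units.mk0 i (Finset.ne_of_mem_erase hi), Finset.mem_univ _, rfl⟩) fun k _ => rfl

/-- A character values its constituents' kernels. -/
theorem apply_eq_of_mult_ne_zero {f : G → ℂ} (hf : IsCharacter G f) (ξ : IrrCharacter G)
    (hm : mult f ξ ≠ 0) {g : G} (hg : f g = f 1) : (ξ : G → ℂ) g = (ξ : G → ℂ) 1 := by
  have hb : ∀ η : IrrCharacter G, ((η : G → ℂ) g).re ≤ ((η : G → ℂ) 1).re := fun η =>
    (Complex.re_le_norm _).trans (norm_isCharacter_le (isCharacter_of_isIrr η.2) g)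
  have e := congrFun (character_eq_sum hf) g
  have e1 := congrFun (character_eq_sum hf) 1
  simp only [Finset.sum_apply, Pi.smul_apply, smul_eq_mul] at e e1
  have h := congrArg Complex.re (e.symm.trans (hg.trans e1))
  simp only [Complex.re_sum, Complex.mul_re, Complex.natCast_re, Complex.natCast_im, zero_mul,
    sub_zero] at h
  have h1 := (Finset.sum_eq_sum_iff_of_le fun η _ =>
    mul_le_mul_of_nonneg_left (hb η) (Nat.cast_nonneg _)).mp h ξ (Finset.mem_univ ξ)
  have h2 := mul_left_cancel₀ (Nat.cast_ne_zero.mpr hm) h1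
  have h3 := norm_isCharacter_le (isCharacter_of_isIrr ξ.2) g
  rw [← h2] at h3
  have h4 := Complex.abs_re_eq_norm.mp (le_antisymm (Complex.abs_re_le_norm _)
    (h3.trans (le_abs_self _)))
  refine Complex.ext h2 ?_
  rw [h4, deg_eq (isCharacter_of_isIrr ξ.2), Complex.natCast_im]

/-- Characters constant on the cosets of the regular part of the centralizer. -/
theorem p_mul_mu {ξ : G → ℂ} (hξ : IsCharacter G ξ) (F : ZMod p → ℂ)
    (hF : ∀ c : D1.cC P, ξ c = F (S.ell c)) :
    (p : ℂ) * mu (D1.cC P) ξ (trivIrr _) = ∑ j, F j := by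
  classical
  rw [← mu_spec hξ, classInner]
  simp only [trivIrr_apply, map_one, mul_one, hF]
  rw [mul_left_comm, inv_mul_eq_iff_eq_mul₀ (Nat.cast_ne_zero.mpr Nat.card_pos.ne')]
  calc (p : ℂ) * ∑ c : D1.cC P, F (S.ell c)
      = ∑ j : ZMod p, ∑ c : D1.cC P, F (S.ell c) := by
        rw [Finset.sum_const, Finset.card_univ, ZMod.card, nsmul_eq_mul]
    _ = ∑ j : ZMod p, ∑ c : D1.cC P, F (j + S.ell c) := Finset.sum_congr rfl fun j _ =>
        (Fintype.sum_equiv (Equiv.mulLeft (S.xC ^ j.val)) _ _ fun c => by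
          rw [Equiv.coe_mulLeft, S.ell_mul, S.ell_xpow]).symm
    _ = ∑ c : D1.cC P, ∑ j : ZMod p, F (j + S.ell c) := Finset.sum_comm
    _ = _ := by
        rw [Finset.sum_congr rfl fun c _ =>
          Fintype.sum_equiv (Equiv.addRight (S.ell c)) (fun j => F (j + S.ell c)) F fun j => rfl,
          Finset.sum_const, Finset.card_univ, nsmul_eq_mul, Nat.card_eq_fintype_card]

variable (hz : ∀ c : D1.cC P, S.ell c = 0 → (c : G) ∈ Subgroup.center G)
variable {θ : IrrCharacter (D1.cC P)}
variable (hθ : ∀ c : D1.cC P, (c : G) ∈ (P : Subgroup G) →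
  (θ : D1.cC P → ℂ) c = (θ : D1.cC P → ℂ) 1)
variable {χ : IrrCharacter G} {c₀ : ZMod p} (hc₀ : c₀ ≠ 0) (hdeg : deg (χ : G → ℂ) = ee S)
variable (hμ : ∀ η : IrrCharacter (D1.cC P),
  mu (D1.cC P) (χ : G → ℂ) η = if η ∈ (orbS S c₀).image (D1.Lam S θ) then 1 else 0)
include hz hθ hc₀ hdeg hμ

/-- The restriction to the normalizer is irreducible. -/
theorem restrict_cN_irr : IsIrrCharacter (D1.cN P) (fun n : D1.cN P => (χ : G → ℂ) n) := by
  classical
  have hχN := isCharacter_restrict (D1.cN P) (isCharacter_of_isIrr χ.2)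
  have hne : (fun n : D1.cN P => (χ : G → ℂ) n) ≠ 0 := fun e0 => by
    have := congrFun e0 1
    simp only [OneMemClass.coe_one, Pi.zero_apply] at this
    exact irr_one_ne_zero χ.2 this
  obtain ⟨φ, hφ⟩ := exists_constituent hχN hne
  have hm : 1 ≤ mult (fun n : D1.cN P => (χ : G → ℂ) n) φ := Nat.one_le_iff_ne_zero.mpr fun e0 =>
    hφ (by rw [mult_spec hχN (isCharacter_of_isIrr φ.2), e0, Nat.cast_zero])
  set inc : D1.cC P →* D1.cN P := Subgroup.inclusion (Subgroup.centralizer_le_normalizer _)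
  have hd := isCharacter_sub_constituent hχN φ.2 hm
  rw [Nat.cast_one, one_smul] at hd
  set φ' : D1.cC P → ℂ := fun c => (φ : D1.cN P → ℂ) (inc c)
  have hφ' : IsCharacter (D1.cC P) φ' := isCharacter_comp inc (isCharacter_of_isIrr φ.2)
  have hd' := isCharacter_comp inc hd
  have hmu : ∀ η : IrrCharacter (D1.cC P),
      mult φ' (η : D1.cC P → ℂ) ≤ mu (D1.cC P) (χ : G → ℂ) η := by
    intro η
    have h1 := mu_spec (P := D1.cC P) (isCharacter_of_isIrr χ.2) η
    rw [show (fun c : D1.cC P => (χ : G → ℂ) c) = φ' + fun c =>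
        ((fun n : D1.cN P => (χ : G → ℂ) n) - (φ : D1.cN P → ℂ)) (inc c) from funext fun c => by
      simp [φ', inc], classInner_add_left, mult_spec hφ' (isCharacter_of_isIrr η.2),
      mult_spec hd' (isCharacter_of_isIrr η.2)] at h1
    rw [← Nat.cast_add, Nat.cast_inj] at h1
    omega
  have hdφ : deg (φ : D1.cN P → ℂ) = ∑ η : IrrCharacter (D1.cC P), mult φ' (η : D1.cC P → ℂ) := by
    have e := congrFun (character_eq_sum hφ') 1
    simp only [Finset.sum_apply, Pi.smul_apply, smul_eq_mul, cC_deg_one S hz, mul_one] at e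
    rw [show φ' 1 = (φ : D1.cN P → ℂ) 1 from congrArg _ (map_one inc),
      deg_eq (isCharacter_of_isIrr φ.2)] at e
    exact_mod_cast e
  obtain ⟨η, -, hη⟩ := Finset.exists_ne_zero_of_sum_ne_zero (hdφ ▸ (deg_pos φ.2).ne')
  have hηO : η ∈ (orbS S c₀).image (D1.Lam S θ) := by
    by_contra h
    have := hmu η
    rw [hμ η, if_neg h] at this
    omega
  obtain ⟨i, hi, rfl⟩ := Finset.mem_image.mp hηO
  have hinv : ∀ (n : D1.cN P) (j : ZMod p),
      mult φ' (D1.Lam S θ (j * S.u n) : D1.cC P → ℂ) = mult φ' (D1.Lam S θ j : D1.cC P → ℂ) := by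
    intro n j
    unfold mult
    congr 2
    rw [(D1.eq_compIrr_cj_iff S θ hθ n (j * S.u n) j).mpr
      ⟨stab_eq_top S hz θ hθ ▸ Subgroup.mem_top n, rfl⟩]
    simp only [classInner, coe_compIrr]
    congr 1
    refine Fintype.sum_equiv (S.cj n).toEquiv _ _ fun c => ?_
    congr 1
    show (φ : D1.cN P → ℂ) (inc c) = (φ : D1.cN P → ℂ) (inc (S.cj n c))
    rw [show inc (S.cj n c) = n * inc c * n⁻¹ from Subtype.ext rfl,
      isClassFunction_of_isIrr φ.2]
  have hge : ee S ≤ deg (φ : D1.cN P → ℂ) := by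
    rw [hdφ, ← card_orbS S hc₀, ← Finset.card_image_of_injective _ (D1.Lam_injective S θ hθ),
      Finset.card_eq_sum_ones]
    refine le_trans (Finset.sum_le_sum fun η hη' => ?_)
      (Finset.sum_le_univ_sum_of_nonneg fun _ => Nat.zero_le _)
    obtain ⟨j, hj, rfl⟩ := Finset.mem_image.mp hη'
    obtain ⟨n, rfl⟩ := (mem_orbS S).mp hj
    obtain ⟨m, rfl⟩ := (mem_orbS S).mp hi
    rw [hinv] at hη ⊢
    exact Nat.one_le_iff_ne_zero.mpr hη
  have hdN : deg (fun n : D1.cN P => (χ : G → ℂ) n) = ee S := by rw [← hdeg]; rfl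
  rw [eq_of_deg_le hχN φ.2 hφ (hdN ▸ hge)]
  exact φ.2

/-- A linear character of the normalizer below a constituent with a fixed vector. -/
theorem exists_eta (ξ : IrrCharacter G) (hT : mu (D1.cC P) (ξ : G → ℂ) (trivIrr _) ≠ 0) :
    ∃ η : IrrCharacter (D1.cN P), mu (D1.cN P) (ξ : G → ℂ) η ≠ 0 ∧
      (∀ n m : D1.cN P, S.u n = S.u m → (η : D1.cN P → ℂ) n = (η : D1.cN P → ℂ) m) ∧
      mu (D1.cN P) ((χ : G → ℂ) * fun g => conj ((χ : G → ℂ) g)) η ≤ 1 := by
  classical
  have hCN : D1.cC P ≤ D1.cN P := Subgroup.centralizer_le_normalizer _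
  set C' := (D1.cC P).subgroupOf (D1.cN P)
  haveI hC'n : C'.Normal := ⟨fun c hc n => by
    rw [Subgroup.mem_subgroupOf, ← S.u_eq_one_iff] at hc ⊢
    rw [S.u_mul, S.u_mul, hc, mul_one, ← S.u_mul, mul_inv_cancel, S.u_one]⟩
  rw [← mu_subgroupOf_triv hCN (isCharacter_of_isIrr ξ.2),
    mu_eq_sum (isCharacter_restrict _ (isCharacter_of_isIrr ξ.2))] at hT
  obtain ⟨η, -, hη⟩ := Finset.exists_ne_zero_of_sum_ne_zero hT
  obtain ⟨hη1, hη2⟩ := mul_ne_zero_iff.mp hη
  have hres := restrict_eq_smul_of_invariant C' η.2 (trivIrr C').2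
    (by rw [mu_spec (isCharacter_of_isIrr η.2)]; exact_mod_cast hη2) (fun z => rfl)
  have hker : ∀ c ∈ C', (η : D1.cN P → ℂ) c = (η : D1.cN P → ℂ) 1 := fun c hc => by
    have e1 := congrFun hres ⟨c, hc⟩
    have e2 := congrFun hres 1
    simp only [Pi.smul_apply, OneMemClass.coe_one] at e1 e2
    rw [e1, e2]
    rfl
  have hcong : ∀ n m : D1.cN P, S.u n = S.u m → n⁻¹ * m ∈ C' := fun n m h => by
    rw [Subgroup.mem_subgroupOf, ← S.u_eq_one_iff, S.u_mul, ← h, ← S.u_mul, inv_mul_cancel, S.u_one]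
  refine ⟨η, hη1, fun n m h => ?_, ?_⟩
  · have := (mem_kerChar_iff (isCharacter_of_isIrr η.2)).mpr (hker _ (hcong n m h)) n
    rw [mul_inv_cancel_left] at this
    exact this.symm
  obtain ⟨ω, hω, hωη⟩ := exists_quotient_irr η.2 C' hker
  have hcomm : ∀ a b : D1.cN P ⧸ C', a * b = b * a := by
    intro a b
    obtain ⟨a, rfl⟩ := QuotientGroup.mk_surjective a
    obtain ⟨b, rfl⟩ := QuotientGroup.mk_surjective b
    rw [← QuotientGroup.mk_mul, ← QuotientGroup.mk_mul]
    exact QuotientGroup.eq.mpr (hcong _ _ (by rw [S.u_mul, S.u_mul, mul_comm]))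
  have h1 : (η : D1.cN P → ℂ) 1 = 1 := by
    rw [← hωη 1, QuotientGroup.mk_one, irr_degree_one_of_comm hcomm hω]
  have hirr := restrict_cN_irr S hz hθ hc₀ hdeg hμ
  have hψ : IsCharacter G ((χ : G → ℂ) * fun g => conj ((χ : G → ℂ) g)) :=
    isCharacter_mul (isCharacter_of_isIrr χ.2) (isCharacter_conj (isCharacter_of_isIrr χ.2))
  have hprod : IsCharacter (D1.cN P) ((fun n : D1.cN P => (χ : G → ℂ) n) * (η : D1.cN P → ℂ)) :=
    isCharacter_mul (isCharacter_of_isIrr hirr) (isCharacter_of_isIrr η.2)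
  have e3 : classInner (fun n : D1.cN P => ((χ : G → ℂ) * fun g => conj ((χ : G → ℂ) g)) n)
      (η : D1.cN P → ℂ) = classInner (fun n : D1.cN P => (χ : G → ℂ) n)
        ((fun n : D1.cN P => (χ : G → ℂ) n) * (η : D1.cN P → ℂ)) :=
    inner_mul_conj (fun n : D1.cN P => (χ : G → ℂ) n) (fun n : D1.cN P => (χ : G → ℂ) n) _
  rw [mu_spec (P := D1.cN P) hψ η, classInner_comm_of_char (isCharacter_of_isIrr hirr) hprod,
    mult_spec hprod (isCharacter_of_isIrr hirr), Nat.cast_inj] at e3
  rw [e3]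
  have hle := constituent_deg_le hprod ⟨_, hirr⟩
  have hd : deg ((fun n : D1.cN P => (χ : G → ℂ) n) * (η : D1.cN P → ℂ)) =
      deg (fun n : D1.cN P => (χ : G → ℂ) n) := by
    simp only [deg, Pi.mul_apply, h1, mul_one]
  rw [hd] at hle
  exact Nat.le_of_mul_le_mul_right (by simpa using hle) (deg_pos hirr)

/-- The bound on a small faithful character. -/
theorem le_of_orbit (hgen : Subgroup.normalClosure ({S.x} : Set G) = ⊤) (h2 : 2 ≤ ee S)
    (hlt : 2 * ee S + 1 < p) : False := by
  classical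
  set e := ee S
  have hχ := isCharacter_of_isIrr χ.2
  set ψ : G → ℂ := (χ : G → ℂ) * fun g => conj ((χ : G → ℂ) g) with hψdef
  have hψ : IsCharacter G ψ := isCharacter_mul hχ (isCharacter_conj hχ)
  -- a second orbit
  obtain ⟨x, hx0, hx⟩ : ∃ x : ZMod p, x ≠ 0 ∧ x ∉ orbS S c₀ := by
    obtain ⟨x, -, hx⟩ := Finset.exists_mem_notMem_of_card_lt_card
      (s := insert 0 (orbS S c₀)) (t := (Finset.univ : Finset (ZMod p))) (by
        refine lt_of_le_of_lt (Finset.card_insert_le _ _) ?_
        rw [card_orbS S hc₀, Finset.card_univ, ZMod.card]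
        omega)
    rw [Finset.mem_insert, not_or] at hx
    exact ⟨x, hx.1, hx.2⟩
  obtain ⟨b, hbD, hborth⟩ := exists_partner S hz hθ hc₀ hdeg hμ hx0 hx
  -- the values of `χ` on regular elements of the centralizer
  have hψreg : ∀ c : D1.cC P, S.ell c = 0 → ψ c = ψ 1 := by
    intro c hc
    have ev : ∀ c : D1.cC P, S.ell c = 0 →
        (χ : G → ℂ) c = (e : ℂ) * (θ : D1.cC P → ℂ) c := by
      intro c hc
      have ex := congrFun (character_eq_sum (isCharacter_restrict (D1.cC P) hχ)) c
      simp only [Finset.sum_apply, Pi.smul_apply, smul_eq_mul] at ex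
      rw [ex, Finset.sum_congr rfl fun η _ =>
        show _ = if η ∈ (orbS S c₀).image (D1.Lam S θ) then (η : D1.cC P → ℂ) c else 0 by
          rw [show mult (fun y : D1.cC P => (χ : G → ℂ) y) (η : D1.cC P → ℂ) =
            if η ∈ (orbS S c₀).image (D1.Lam S θ) then 1 else 0 from hμ η]
          split_ifs <;> simp,
        ← Finset.sum_filter, Finset.filter_mem_eq_inter, Finset.univ_inter,
        Finset.sum_image fun i _ j _ h => D1.Lam_injective S θ hθ h]
      simp only [D1.Lam_apply, hc, mul_zero, D1.psi_zero, one_mul]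
      rw [Finset.sum_const, card_orbS S hc₀, nsmul_eq_mul]
    have hn : (θ : D1.cC P → ℂ) c * conj ((θ : D1.cC P → ℂ) c) = 1 := by
      obtain ⟨lam, hlam⟩ := exists_hom_of_comm (cC_comm S hz) θ.2
      rw [← char_inv_eq_conj (isCharacter_of_isIrr θ.2), hlam]
      simp
    have h1 := ev 1 S.ell_one
    rw [cC_deg_one S hz θ, mul_one, OneMemClass.coe_one] at h1
    simp only [hψdef, Pi.mul_apply, ev c hc, h1, map_mul, Complex.conj_natCast]
    linear_combination ((e : ℂ) * e) * hn
  -- values of constituents on the centralizer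
  have hval : ∀ ξ : IrrCharacter G, mult ψ ξ ≠ 0 → ∀ c : D1.cC P,
      (ξ : G → ℂ) c = (ξ : G → ℂ) ((S.xC ^ (S.ell c).val : D1.cC P) : G) := by
    intro ξ hm c
    obtain ⟨y, hy, hy0⟩ := S.exists_decomp c
    conv_lhs => rw [hy, Subgroup.coe_mul]
    exact (mem_kerChar_iff (isCharacter_of_isIrr ξ.2)).mpr
      (apply_eq_of_mult_ne_zero hψ ξ hm (hψreg y hy0)) _
  have hbT : mu (D1.cC P) ((b : G → ℂ) * fun g => conj ((χ : G → ℂ) g)) (trivIrr _) = 0 := by
    have hb' : IsCharacter G ((b : G → ℂ) * fun g => conj ((χ : G → ℂ) g)) :=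
      isCharacter_mul (isCharacter_of_isIrr b.2) (isCharacter_conj hχ)
    have e1 := mu_spec (P := D1.cC P) hb' (trivIrr _)
    rw [show classInner (fun y : D1.cC P => ((b : G → ℂ) * fun g => conj ((χ : G → ℂ) g)) y)
        (trivIrr (D1.cC P) : D1.cC P → ℂ) = 0 from ?_] at e1
    · exact_mod_cast e1.symm
    · show classInner ((fun y : D1.cC P => (b : G → ℂ) y) * fun y : D1.cC P => conj ((χ : G → ℂ) y)) _ = _
      rw [inner_mul_conj, ← hborth]
      congr 1
      funext y
      exact mul_one _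
  -- each nontrivial constituent
  have hper : ∀ ξ : IrrCharacter G, ξ ≠ trivIrr G → mult ψ ξ * ((p + 1) *
      mu (D1.cC P) (ξ : G → ℂ) (trivIrr _)) ≤ 2 * (mult ψ ξ * deg (ξ : G → ℂ)) := by
    intro ξ hξt
    set T := mu (D1.cC P) (ξ : G → ℂ) (trivIrr _) with hTdef
    by_cases hm : mult ψ ξ = 0
    · simp [hm]
    by_cases hT : T = 0
    · simp [hT]
    set d := deg (ξ : G → ℂ)
    set F : ZMod p → ℂ := fun j => (ξ : G → ℂ) ((S.xC ^ j.val : D1.cC P) : G) with hFdef
    have hF : ∀ c : D1.cC P, (ξ : G → ℂ) c = F (S.ell c) := hval ξ hm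
    have hA := p_mul_mu S (isCharacter_of_isIrr ξ.2) F hF
    rw [← hTdef] at hA
    have hσF : ∀ (k : (ZMod p)ˣ) (c : D1.cC P), (sig S k ξ : G → ℂ) c = F (k * S.ell c) := by
      intro k c
      rw [sig_apply, ← SubmonoidClass.coe_pow, hF, ell_pow_expo]
    have hσT : ∀ k, mu (D1.cC P) (sig S k ξ : G → ℂ) (trivIrr _) = T := by
      intro k
      have h := p_mul_mu S (isCharacter_of_isIrr (sig S k ξ).2) (fun j => F (k * j)) (hσF k)
      rw [show (∑ j, F ((k : ZMod p) * j)) = ∑ j, F j from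
        Fintype.sum_equiv (Units.mulLeft k) _ _ fun j => rfl, ← hA] at h
      exact_mod_cast mul_left_cancel₀ (Nat.cast_ne_zero.mpr hp.out.ne_zero) h
    -- at most one conjugate occurs
    obtain ⟨η, hη, hηu, hη1⟩ := exists_eta S hz hθ hc₀ hdeg hμ ξ hT
    replace hη1 : mu (D1.cN P) ψ η ≤ 1 := hη1
    have hση : ∀ k, mu (D1.cN P) (sig S k ξ : G → ℂ) η = mu (D1.cN P) (ξ : G → ℂ) η := by
      intro k
      show mult _ _ = mult _ _
      unfold mult
      congr 2
      simp only [classInner]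
      congr 1
      refine Fintype.sum_equiv (powCoprime (G := D1.cN P) (n := expo (P := P) k) ?_) _ _ fun n => ?_
      · exact ((expo_coprime S k).coprime_dvd_right (Subgroup.card_subgroup_dvd_card _)).symm
      · rw [sig_apply]
        show (ξ : G → ℂ) ((n : G) ^ expo (P := P) k) * conj ((η : D1.cN P → ℂ) n) =
          (ξ : G → ℂ) ((n ^ expo (P := P) k : D1.cN P) : G) *
            conj ((η : D1.cN P → ℂ) (n ^ expo (P := P) k))
        rw [SubmonoidClass.coe_pow, hηu _ n (u_pow_expo S k n)]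
    have huniq : ∀ k, mult ψ (sig S k ξ) ≠ 0 → sig S k ξ = ξ ∧ mult ψ ξ = 1 := by
      intro k hk
      refine ⟨by_contra fun hne => ?_, ?_⟩
      · have hs : ∑ ζ ∈ ({sig S k ξ, ξ} : Finset (IrrCharacter G)),
            mult ψ ζ * mu (D1.cN P) (ζ : G → ℂ) η ≤ mu (D1.cN P) ψ η := by
          rw [mu_eq_sum hψ η]
          exact Finset.sum_le_univ_sum_of_nonneg fun _ => Nat.zero_le _
        rw [Finset.sum_pair hne, hση] at hs
        have h1 := Nat.mul_pos (Nat.pos_of_ne_zero hk) (Nat.pos_of_ne_zero hη)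
        have h2 := Nat.mul_pos (Nat.pos_of_ne_zero hm) (Nat.pos_of_ne_zero hη)
        omega
      · have h1 := (mult_mul_mu_le (P := D1.cN P) hψ ξ η).trans hη1
        have h2 := Nat.le_mul_of_pos_right (mult ψ ξ) (Nat.pos_of_ne_zero hη)
        omega
    have hm1 : mult ψ ξ = 1 := by
      have h1 := (mult_mul_mu_le (P := D1.cN P) hψ ξ η).trans hη1
      have h2 := Nat.le_mul_of_pos_right (mult ψ ξ) (Nat.pos_of_ne_zero hη)
      omega
    -- the stabilizer
    let K : Subgroup (ZMod p)ˣ :=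
      { carrier := {k | sig S k ξ = ξ}
        one_mem' := Subtype.ext (funext fun g => by rw [sig_apply, pow_expo_one S])
        mul_mem' := fun {k l} hk hl => Subtype.ext (funext fun g => by
          rw [sig_apply, pow_expo_mul S, ← sig_apply S l, (hl : sig S l ξ = ξ), ← sig_apply S k,
            (hk : sig S k ξ = ξ)])
        inv_mem' := fun {k} hk => Subtype.ext (funext fun g => by
          conv_lhs => rw [sig_apply, ← (hk : sig S k ξ = ξ), sig_apply]
          rw [← pow_expo_mul S, inv_mul_cancel, pow_expo_one S]) }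
    have hcount : ∑ k : (ZMod p)ˣ, mult ψ (sig S k ξ) = Nat.card K := by
      rw [Nat.card_eq_fintype_card, Fintype.card_subtype, Finset.card_filter]
      refine Finset.sum_congr rfl fun k _ => ?_
      by_cases hk : k ∈ K
      · rw [if_pos hk, (hk : sig S k ξ = ξ), hm1]
      · rw [if_neg hk]
        by_contra hne
        exact hk (huniq k hne).1
    -- the exchange with `b`
    have hkey : (Nat.card K : ℂ) = (p : ℂ) * T - d := by
      set f : G → ℂ := ∑ k : (ZMod p)ˣ, (χ : G → ℂ) * (sig S k ξ : G → ℂ)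
      have hfc : IsClassFunction G f := isClassFunction_of_isCharacter
        (isCharacter_sum _ fun k _ => isCharacter_mul hχ (isCharacter_of_isIrr (sig S k ξ).2))
      have h := hbD f hfc
      have hl1 : classInner (χ : G → ℂ) f = (Nat.card K : ℂ) := by
        rw [← hcount, classInner_sum_right, Nat.cast_sum]
        refine Finset.sum_congr rfl fun k _ => ?_
        rw [← inner_mul_conj, ← hψdef, mult_spec hψ (isCharacter_of_isIrr (sig S k ξ).2)]
      have hl2 : classInner (b : G → ℂ) f = 0 := by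
        rw [classInner_sum_right]
        refine Finset.sum_eq_zero fun k _ => ?_
        have hb' : IsCharacter G ((b : G → ℂ) * fun g => conj ((χ : G → ℂ) g)) :=
          isCharacter_mul (isCharacter_of_isIrr b.2) (isCharacter_conj hχ)
        rw [← inner_mul_conj, mult_spec hb' (isCharacter_of_isIrr (sig S k ξ).2), Nat.cast_eq_zero]
        have h0 := mult_mul_mu_le (P := D1.cC P) hb' (sig S k ξ) (trivIrr _)
        rw [hbT, hσT] at h0
        exact (mul_eq_zero.mp (Nat.le_zero.mp h0)).resolve_right hT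
      rw [hl1, hl2, sub_zero, ← classInner_sub_left] at h
      have hG : ∀ c : D1.cC P, S.ell c ≠ 0 →
          f c = (χ : G → ℂ) c * ((p : ℂ) * T - d) := by
        intro c hc
        simp only [f, Finset.sum_apply, Pi.mul_apply, hσF, ← Finset.mul_sum]
        congr 1
        rw [hA, ← deg_eq (isCharacter_of_isIrr ξ.2),
          show (ξ : G → ℂ) 1 = F 0 by simp [hFdef], ← sum_units F, add_sub_cancel_right]
        exact Fintype.sum_equiv (Equiv.mulRight (Units.mk0 _ hc)) _ _ fun k => rfl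
      have h' : classInner ((D1.Lam S θ c₀ : D1.cC P → ℂ) - (D1.Lam S θ x : D1.cC P → ℂ))
            (fun c : D1.cC P => f c) =
          classInner ((D1.Lam S θ c₀ : D1.cC P → ℂ) - (D1.Lam S θ x : D1.cC P → ℂ))
            (((p : ℂ) * T - d) • fun c : D1.cC P => (χ : G → ℂ) c) := by
        simp only [classInner]
        congr 1
        refine Finset.sum_congr rfl fun c _ => ?_
        by_cases hc : S.ell c = 0
        · simp [D1.Lam_apply, hc]
        · rw [hG c hc, Pi.smul_apply, smul_eq_mul, mul_comm ((χ : G → ℂ) c)]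
      rw [h', classInner_smul_right, classInner_sub_left] at h
      have hmult : ∀ i, classInner (D1.Lam S θ i : D1.cC P → ℂ) (fun c : D1.cC P => (χ : G → ℂ) c) =
          if i ∈ orbS S c₀ then 1 else 0 := by
        intro i
        rw [← classInner_conj_symm, mu_spec (P := D1.cC P) hχ, hμ]
        have hin : D1.Lam S θ i ∈ (orbS S c₀).image (D1.Lam S θ) ↔ i ∈ orbS S c₀ :=
          ⟨fun h => by
            obtain ⟨j, hj, e⟩ := Finset.mem_image.mp h
            exact D1.Lam_injective S θ hθ e ▸ hj, fun h => Finset.mem_image_of_mem _ h⟩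
        by_cases hi : i ∈ orbS S c₀
        · rw [if_pos (hin.mpr hi), if_pos hi]; simp
        · rw [if_neg (mt hin.mp hi), if_neg hi]; simp
      rw [hmult, hmult, if_pos (self_mem_orbS S c₀), if_neg hx, sub_zero, mul_one] at h
      simpa using h
    have hkey' : Nat.card K + d = p * T := by
      have : ((Nat.card K + d : ℕ) : ℂ) = ((p * T : ℕ) : ℂ) := by push_cast; rw [hkey]; ring
      exact_mod_cast this
    rw [hm1, one_mul, one_mul]
    have hU : Nat.card (ZMod p)ˣ = p - 1 := by rw [Nat.card_eq_fintype_card, ZMod.card_units]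
    have hKi := K.card_mul_index
    rw [hU] at hKi
    have hT1 : 1 ≤ T := Nat.one_le_iff_ne_zero.mpr hT
    have hp1 : p = (p - 1) + 1 := by have := hp.out.pos; omega
    set r := p - 1
    by_cases hK : K = ⊤
    · rw [hK, Subgroup.card_top, hU] at hkey'
      have hT2 : 2 ≤ T := by
        by_contra hlt
        have hT' : T = 1 := by omega
        have hd1 : d = 1 := by rw [hT', mul_one] at hkey'; omega
        apply hξt
        have hξC : IsCharacter (D1.cC P) fun c : D1.cC P => (ξ : G → ℂ) c :=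
          isCharacter_restrict _ (isCharacter_of_isIrr ξ.2)
        have hres : (fun c : D1.cC P => (ξ : G → ℂ) c) = (trivIrr (D1.cC P) : D1.cC P → ℂ) := by
          refine eq_of_deg_le hξC (trivIrr _).2 ?_ (le_of_eq ?_)
          · rw [mu_spec (P := D1.cC P) (isCharacter_of_isIrr ξ.2), ← hTdef, hT', Nat.cast_one]
            exact one_ne_zero
          · show deg (ξ : G → ℂ) = deg _
            rw [show deg (ξ : G → ℂ) = 1 from hd1]
            simp [deg]
        set L := kerChar (ξ : G → ℂ)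
        haveI : L.Normal := ⟨fun k hk g => (mem_kerChar_iff (isCharacter_of_isIrr ξ.2)).mpr (by
          rw [isClassFunction_of_isIrr ξ.2 k g]
          exact (mem_kerChar_iff (isCharacter_of_isIrr ξ.2)).mp hk)⟩
        have h1 : (ξ : G → ℂ) 1 = 1 := congrFun hres 1
        have hLtop : L = ⊤ := top_le_iff.mp (hgen ▸ Subgroup.normalClosure_le_normal
          (Set.singleton_subset_iff.mpr ((mem_kerChar_iff (isCharacter_of_isIrr ξ.2)).mpr
            ((congrFun hres S.xC).trans h1.symm))))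
        refine Subtype.ext (funext fun g => ?_)
        exact ((mem_kerChar_iff (isCharacter_of_isIrr ξ.2)).mp
          (show g ∈ L by rw [hLtop]; trivial)).trans h1
      nlinarith
    · have hidx : 2 ≤ K.index := by
        have h0 := K.index_ne_zero_of_finite
        have h1 : K.index ≠ 1 := fun e => hK (Subgroup.index_eq_one.mp e)
        omega
      have h3 : Nat.card K * 2 ≤ r := hKi ▸ Nat.mul_le_mul_left _ hidx
      nlinarith
  -- totals
  have hψT : mu (D1.cC P) ψ (trivIrr _) = e := by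
    have e1 := mu_spec (P := D1.cC P) hψ (trivIrr _)
    have e2 : classInner (fun y : D1.cC P => ψ y) (trivIrr (D1.cC P) : D1.cC P → ℂ) =
        classInner (fun y : D1.cC P => (χ : G → ℂ) y) (fun y : D1.cC P => (χ : G → ℂ) y) := by
      show classInner ((fun y : D1.cC P => (χ : G → ℂ) y) * fun y : D1.cC P => conj ((χ : G → ℂ) y)) _ = _
      rw [inner_mul_conj]
      congr 1
      funext y
      exact mul_one _
    rw [e2, inner_restrict_self (P := D1.cC P) hχ, Finset.sum_congr rfl fun η _ =>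
      show mu (D1.cC P) (χ : G → ℂ) η ^ 2 =
        if η ∈ (orbS S c₀).image (D1.Lam S θ) then 1 else 0 by rw [hμ]; split_ifs <;> rfl,
      Finset.sum_boole, Finset.filter_mem_eq_inter, Finset.univ_inter,
      Finset.card_image_of_injective _ (D1.Lam_injective S θ hθ), card_orbS S hc₀] at e1
    exact_mod_cast e1.symm
  have hψ1 : mult ψ (trivIrr G) = 1 := by
    have e1 := mult_spec hψ (isCharacter_of_isIrr (trivIrr G).2)
    have e2 : classInner ψ (trivIrr G : G → ℂ) = classInner (χ : G → ℂ) (χ : G → ℂ) := by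
      rw [hψdef, inner_mul_conj]
      congr 1
      funext g
      exact mul_one _
    rw [e2, irr_inner_self χ.2] at e1
    exact_mod_cast e1.symm
  have hsumT : e = 1 + ∑ ξ ∈ Finset.univ.erase (trivIrr G),
      mult ψ ξ * mu (D1.cC P) (ξ : G → ℂ) (trivIrr _) := by
    rw [← hψT, mu_eq_sum hψ, ← Finset.add_sum_erase _ _ (Finset.mem_univ (trivIrr G)), hψ1, one_mul]
    exact congrArg (· + _) mu_triv_triv
  have hsumD : e * e = 1 + ∑ ξ ∈ Finset.univ.erase (trivIrr G), mult ψ ξ * deg (ξ : G → ℂ) := by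
    have e1 := congrFun (character_eq_sum hψ) 1
    simp only [Finset.sum_apply, Pi.smul_apply, smul_eq_mul] at e1
    rw [Finset.sum_congr rfl fun ξ _ => by rw [deg_eq (isCharacter_of_isIrr ξ.2)]] at e1
    rw [show ψ 1 = ((e * e : ℕ) : ℂ) by
      rw [hψdef, Pi.mul_apply, deg_eq hχ, hdeg, Complex.conj_natCast, Nat.cast_mul]] at e1
    have e2 : e * e = ∑ ξ : IrrCharacter G, mult ψ ξ * deg (ξ : G → ℂ) := by exact_mod_cast e1
    rw [e2, ← Finset.add_sum_erase _ _ (Finset.mem_univ (trivIrr G)), hψ1, one_mul]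
    congr 1
    simp [deg]
  have hle : (p + 1) * (∑ ξ ∈ Finset.univ.erase (trivIrr G),
      mult ψ ξ * mu (D1.cC P) (ξ : G → ℂ) (trivIrr _)) ≤
      2 * ∑ ξ ∈ Finset.univ.erase (trivIrr G), mult ψ ξ * deg (ξ : G → ℂ) := by
    rw [Finset.mul_sum, Finset.mul_sum]
    refine Finset.sum_le_sum fun ξ hξ => ?_
    calc (p + 1) * (mult ψ ξ * mu (D1.cC P) (ξ : G → ℂ) (trivIrr _))
        = mult ψ ξ * ((p + 1) * mu (D1.cC P) (ξ : G → ℂ) (trivIrr _)) := by ring
      _ ≤ _ := hper ξ (Finset.ne_of_mem_erase hξ)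
  nlinarith

end Cfsg.Agent.CT.SmallFaithful
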