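import Cfsg.Agent.Lib.CT.SmallFaithful.Central
import Cfsg.Agent.Lib.CT.SmallFaithful.Counting
import Cfsg.Agent.Lib.Blocks.Knorr

/-!
# A Sylow subgroup of order `p` is normal when a faithful character has degree below `(p - 1)/2`
-/

set_option autoImplicit false
set_option linter.unusedSectionVars false
set_option linter.style.haveILetI false

namespace Cfsg.Agent.CT.SmallFaithful

open scoped Cfsg.Agent.Blocks.D1 commutatorElement

universe u

variable {p : ℕ} [hp : Fact p.Prime]

theorem mem_of_normal {G : Type u} [Group G] [Finite G] (hsq : ¬ p ^ 2 ∣ Nat.card G) (Q : Subgroup G)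
    [Q.Normal] (hQ : Nat.card Q = p) {y : G} (hy : y ^ p = 1) : y ∈ Q := by
  rw [← QuotientGroup.eq_one_iff]
  have h1 : orderOf ((y : G ⧸ Q)) ∣ p :=
    orderOf_dvd_of_pow_eq_one (by rw [← QuotientGroup.mk_pow, hy, QuotientGroup.mk_one])
  rcases (Nat.dvd_prime hp.out).mp h1 with h | h
  · exact orderOf_eq_one_iff.mp h
  · refine absurd ?_ hsq
    have h2 : p ∣ Q.index := h ▸ orderOf_dvd_natCard (y : G ⧸ Q)
    rw [← Q.card_mul_index, hQ, pow_two]
    exact Nat.mul_dvd_mul_left p h2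

theorem normal_of_comm {G : Type u} [Group G] (h : ∀ a b : G, a * b = b * a) (H : Subgroup G) :
    H.Normal :=
  ⟨fun y hy g => by rwa [h g y, mul_inv_cancel_right]⟩

theorem kerChar_normal {G : Type u} [Group G] [Finite G] {ξ : G → ℂ} (hξ : IsIrrCharacter G ξ) :
    (kerChar ξ).Normal :=
  ⟨fun k hk g => (mem_kerChar_iff (isCharacter_of_isIrr hξ)).mpr (by
    rw [isClassFunction_of_isIrr hξ k g]
    exact (mem_kerChar_iff (isCharacter_of_isIrr hξ)).mp hk)⟩

theorem normal_of_irr {G : Type u} [Group G] [Fintype G] (hsq : ¬ p ^ 2 ∣ Nat.card G) {x : G}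
    (hx : orderOf x = p) (hgen : Subgroup.normalClosure ({x} : Set G) = ⊤) (ξ : IrrCharacter G)
    (hfaith : ∀ g : G, (ξ : G → ℂ) g = (ξ : G → ℂ) 1 → g = 1)
    (hlt : 2 * deg (ξ : G → ℂ) + 1 < p) : (Subgroup.zpowers x).Normal := by
  by_cases h1 : deg (ξ : G → ℂ) = 1
  · refine normal_of_comm (fun a b => ?_) _
    have hd : (ξ : G → ℂ) 1 = 1 := by rw [deg_eq (isCharacter_of_isIrr ξ.2), h1, Nat.cast_one]
    have := hfaith _ (linear_trivial_on_commutator (isCharacter_of_isIrr ξ.2) hd _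
      (Subgroup.commutator_mem_commutator (Subgroup.mem_top a) (Subgroup.mem_top b)))
    exact commutatorElement_eq_one_iff_mul_comm.mp this
  by_contra hnormal
  have hnn : ∀ N : Subgroup G, N.Normal → Nat.card N ≠ p := by
    intro N hN hc
    have hxN : x ∈ N := mem_of_normal hsq N hc (hx ▸ pow_orderOf_eq_one x)
    have e : Subgroup.zpowers x = N := Subgroup.eq_of_le_of_card_ge (Subgroup.zpowers_le.mpr hxN)
      (by rw [hc, Nat.card_zpowers, hx])
    exact hnormal (e ▸ hN)
  have hdvd : p ∣ Nat.card G := hx ▸ orderOf_dvd_natCard x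
  have hfac : (Nat.card G).factorization p = 1 := by
    have h2 := hp.out.factorization_pos_of_dvd Nat.card_pos.ne' hdvd
    have h3 : ¬ 2 ≤ (Nat.card G).factorization p := fun h =>
      hsq ((hp.out.pow_dvd_iff_le_factorization Nat.card_pos.ne').mpr h)
    omega
  let P : Sylow p G := Sylow.ofCard (Subgroup.zpowers x) (by
    rw [Nat.card_zpowers, hx, hfac, pow_one])
  have hP : Nat.card P = p := by
    show Nat.card (Subgroup.zpowers x) = p
    rw [Nat.card_zpowers, hx]
  obtain ⟨S⟩ := Blocks.D1.exists_setup P hP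
  have hgen' : Subgroup.normalClosure ({S.x} : Set G) = ⊤ := by
    refine top_le_iff.mp (hgen ▸ Subgroup.normalClosure_le_normal (Set.singleton_subset_iff.mpr ?_))
    have h2 : x ∈ Subgroup.zpowers S.x := by
      rw [S.hxP]; exact Subgroup.mem_zpowers x
    have h3 : S.x ∈ Subgroup.normalClosure ({S.x} : Set G) :=
      Subgroup.subset_normalClosure (Set.mem_singleton S.x)
    exact (Subgroup.zpowers_le.mpr h3) h2
  obtain ⟨M, hM⟩ := Blocks.exists_isPModular hp.out
  haveI := hM.2.1.isPrime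
  have hz : ∀ c : Blocks.D1.cC P, S.ell c = 0 → (c : G) ∈ Subgroup.center G := fun c hc =>
    central_of_irr hM S.hx hsq hnn hgen' ξ hfaith (by omega)
      (Subgroup.mem_centralizer_iff.mp c.2 S.x S.x_mem_P) ((S.ell_eq_zero_iff c).mp hc)
  have h2 : 2 ≤ deg (ξ : G → ℂ) := by have := deg_pos ξ.2; omega
  obtain ⟨θ, hθ, c₀, hc₀, hdeg, hμ⟩ := exists_orbit S hz hM ξ hfaith h2 hlt
  exact le_of_orbit S hz hθ hc₀ hdeg hμ hgen' (hdeg ▸ h2) (hdeg ▸ hlt)

theorem normal_zpowers (m : ℕ) : ∀ (G : Type u) [Group G] [Fintype G], Nat.card G ≤ m →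
    ¬ p ^ 2 ∣ Nat.card G → ∀ χ : G → ℂ, IsCharacter G χ → (∀ g : G, χ g = χ 1 → g = 1) →
    2 * deg χ + 1 < p → ∀ x : G, orderOf x = p → (Subgroup.zpowers x).Normal := by
  induction m using Nat.strong_induction_on with
  | _ m ih =>
    intro G _ _ hGm hsq χ hχ hfaith hlt x hx
    classical
    set L := Subgroup.normalClosure ({x} : Set G)
    have hxL : x ∈ L := Subgroup.subset_normalClosure rfl
    by_cases hL : L = ⊤
    swap
    · have hLlt : Nat.card L < m := lt_of_lt_of_le (lt_of_le_of_ne (Subgroup.card_le_card_group L)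
        fun h => hL (Subgroup.eq_top_of_card_eq L h)) hGm
      letI := Fintype.ofFinite L
      have hsqL : ¬ p ^ 2 ∣ Nat.card L := fun h => hsq (h.trans (Subgroup.card_subgroup_dvd_card L))
      have hd : deg (fun l : L => χ l) = deg χ := rfl
      have hx' : orderOf (⟨x, hxL⟩ : L) = p := by rw [← hx, ← Subgroup.orderOf_coe]
      haveI := ih (Nat.card L) hLlt L le_rfl hsqL (fun l : L => χ l) (isCharacter_restrict L hχ)
        (fun g hg => Subtype.ext (hfaith g hg)) (hd ▸ hlt) ⟨x, hxL⟩ hx'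
      refine ⟨fun y hy g => ?_⟩
      have hyL : y ∈ L := Subgroup.zpowers_le.mpr hxL hy
      have hgy : g * y * g⁻¹ ∈ L := (Subgroup.normalClosure_normal).conj_mem y hyL g
      have hyp : y ^ p = 1 := by
        have h1 := orderOf_dvd_natCard (⟨y, hy⟩ : Subgroup.zpowers x)
        rw [Nat.card_zpowers, hx] at h1
        exact congrArg Subtype.val (orderOf_dvd_iff_pow_eq_one.mp h1)
      have h2 := mem_of_normal hsqL (Subgroup.zpowers (⟨x, hxL⟩ : L))
        (by rw [Nat.card_zpowers, hx']) (y := ⟨_, hgy⟩)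
        (Subtype.ext (by rw [SubmonoidClass.coe_pow, conj_pow, hyp]; simp))
      obtain ⟨i, hi⟩ := Subgroup.mem_zpowers_iff.mp h2
      exact Subgroup.mem_zpowers_iff.mpr ⟨i, by simpa using congrArg Subtype.val hi⟩
    by_cases hex : ∃ ξ : IrrCharacter G, mult χ ξ ≠ 0 ∧ kerChar (ξ : G → ℂ) = ⊥
    · obtain ⟨ξ, hξ, hker⟩ := hex
      refine normal_of_irr hsq hx hL ξ (fun g hg => ?_) ?_
      · have h1 := (mem_kerChar_iff (isCharacter_of_isIrr ξ.2)).mpr hg
        rwa [hker, Subgroup.mem_bot] at h1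
      · have h1 := constituent_deg_le hχ ξ
        have h2 := Nat.le_mul_of_pos_left (deg (ξ : G → ℂ)) (Nat.pos_of_ne_zero hξ)
        omega
    push Not at hex
    refine normal_of_comm (fun a b => ?_) _
    refine commutatorElement_eq_one_iff_mul_comm.mp (hfaith _ ?_)
    rw [congrFun (character_eq_sum hχ) ⁅a, b⁆, congrFun (character_eq_sum hχ) 1]
    simp only [Finset.sum_apply, Pi.smul_apply, smul_eq_mul]
    refine Finset.sum_congr rfl fun ξ _ => ?_
    by_cases hξ : mult χ ξ = 0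
    · rw [hξ, Nat.cast_zero, zero_mul, zero_mul]
    congr 1
    have hξc := isCharacter_of_isIrr ξ.2
    set K := kerChar (ξ : G → ℂ)
    haveI hKn : K.Normal := kerChar_normal ξ.2
    by_cases hxK : x ∈ K
    · have hKtop : K = ⊤ := top_le_iff.mp
        (hL ▸ Subgroup.normalClosure_le_normal (Set.singleton_subset_iff.mpr hxK))
      exact (mem_kerChar_iff hξc).mp (show ⁅a, b⁆ ∈ K by rw [hKtop]; trivial)
    obtain ⟨ω, hω, hωξ⟩ := exists_quotient_irr ξ.2 K fun k hk => (mem_kerChar_iff hξc).mp hk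
    letI := Fintype.ofFinite (G ⧸ K)
    have hKlt : Nat.card (G ⧸ K) < m := by
      refine lt_of_lt_of_le ?_ hGm
      rw [K.card_eq_card_quotient_mul_card_subgroup]
      refine lt_mul_of_one_lt_right Nat.card_pos ?_
      exact K.one_lt_card_iff_ne_bot.mpr (hex ξ hξ)
    have hxq : orderOf (x : G ⧸ K) = p := by
      rcases (Nat.dvd_prime hp.out).mp (hx ▸ orderOf_map_dvd (QuotientGroup.mk' K) x) with h | h
      · exact absurd ((QuotientGroup.eq_one_iff x).mp (orderOf_eq_one_iff.mp h)) hxK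
      · exact h
    have hωd : deg ω = deg (ξ : G → ℂ) := by
      unfold deg
      rw [← hωξ 1, QuotientGroup.mk_one]
    haveI := ih (Nat.card (G ⧸ K)) hKlt (G ⧸ K) le_rfl
      (fun h => hsq (h.trans (Subgroup.card_quotient_dvd_card K))) ω (isCharacter_of_isIrr hω)
      (fun q hq => by
        obtain ⟨g, rfl⟩ := QuotientGroup.mk_surjective q
        rw [hωξ, ← QuotientGroup.mk_one, hωξ] at hq
        exact (QuotientGroup.eq_one_iff g).mpr ((mem_kerChar_iff hξc).mpr hq))
      (by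
        have h1 := constituent_deg_le hχ ξ
        have h2 := Nat.le_mul_of_pos_left (deg (ξ : G → ℂ)) (Nat.pos_of_ne_zero hξ)
        omega) (x : G ⧸ K) hxq
    have htop : (Subgroup.zpowers (x : G ⧸ K)).comap (QuotientGroup.mk' K) = ⊤ :=
      top_le_iff.mp (hL ▸ Subgroup.normalClosure_le_normal
        (Set.singleton_subset_iff.mpr (Subgroup.mem_zpowers (x : G ⧸ K))))
    have hall : ∀ g : G, (g : G ⧸ K) ∈ Subgroup.zpowers (x : G ⧸ K) := fun g =>
      show g ∈ (Subgroup.zpowers (x : G ⧸ K)).comap (QuotientGroup.mk' K) by rw [htop]; trivial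
    refine (mem_kerChar_iff hξc).mp ((QuotientGroup.eq_one_iff _).mp ?_)
    obtain ⟨i, hi⟩ := Subgroup.mem_zpowers_iff.mp (hall a)
    obtain ⟨j, hj⟩ := Subgroup.mem_zpowers_iff.mp (hall b)
    show QuotientGroup.mk' K ⁅a, b⁆ = 1
    rw [map_commutatorElement, commutatorElement_eq_one_iff_mul_comm]
    show (a : G ⧸ K) * b = b * a
    rw [← hi, ← hj, ← zpow_add, ← zpow_add, add_comm]

end Cfsg.Agent.CT.SmallFaithful
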