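import Cfsg.Agent.Lib.CT.SmallFaithful.Scalar
import Cfsg.Agent.Lib.Blocks.Idempotent
import Cfsg.Agent.Lib.Blocks.UnramRing
import Cfsg.Agent.Lib.CT.Basic

/-!
# In a group with a small faithful character the centralizer of `P` is `P` times the centre
-/

set_option autoImplicit false
set_option linter.unusedSectionVars false

namespace Cfsg.Agent.CT.SmallFaithful

open scoped ComplexConjugate

universe u v w

variable {k : Type v} [Field k] [IsAlgClosed k] {p : ℕ} [hp : Fact p.Prime] [CharP k p]
variable {G : Type u} [Group G] [Finite G]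

/-- A normal subgroup generated by commutators with a centralizing `p'`-element is unipotent. -/
theorem commutator_unipotent {x v : G} (hx : orderOf x = p) (hsq : ¬ p ^ 2 ∣ Nat.card G)
    (hgen : Subgroup.normalClosure ({x} : Set G) = ⊤) (hv : Commute x v) (hvp : ¬ p ∣ orderOf v)
    {s : ℕ} (h2 : 2 * s ≤ p) (d : ℕ) :
    ∀ (H : Type w) [AddCommGroup H] [Module k H] [FiniteDimensional k H] (π : Representation k G H),
      Module.finrank k H ≤ d → (π x - 1) ^ s = 0 →
      ∀ u ∈ Subgroup.normalClosure (Set.range fun g : G => g * v * g⁻¹ * v⁻¹), (π u - 1) ^ d = 0 := by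
  induction d with
  | zero =>
    intro H _ _ _ π hd _ u _
    haveI : Subsingleton H := Module.finrank_zero_iff.mp (Nat.le_zero.mp hd)
    exact LinearMap.ext fun z => Subsingleton.elim _ _
  | succ d ih =>
    intro H _ _ _ π hd hs u hu
    rcases subsingleton_or_nontrivial H with hS | hS
    · exact LinearMap.ext fun z => Subsingleton.elim _ _
    -- a minimal stable subspace
    obtain ⟨T, ⟨hTne, hTst⟩, hTmin⟩ := (wellFounded_lt (α := Submodule k H)).has_min
      {T | T ≠ ⊥ ∧ ∀ g, T ≤ T.comap (π g)} ⟨⊤, top_ne_bot, fun g z _ => Submodule.mem_top⟩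
    set σ := π.subrepresentation T hTst with hσ
    haveI : Nontrivial T := (Submodule.nontrivial_iff_ne_bot).mpr hTne
    have hschur : ∀ φ : Module.End k T, (∀ g, σ g * φ = φ * σ g) → ∃ c : k, φ = c • 1 := by
      intro φ hφ
      obtain ⟨c, hc⟩ := Module.End.exists_eigenvalue φ
      refine ⟨c, LinearMap.ext fun z => ?_⟩
      set W := (Module.End.eigenspace φ c).map T.subtype with hW
      have hWT : W ≤ T := Submodule.map_subtype_le _ _
      have hWst : ∀ g, W ≤ W.comap (π g) := by
        rintro g _ ⟨t, ht, rfl⟩
        refine ⟨σ g t, ?_, rfl⟩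
        have h := LinearMap.congr_fun (hφ g) t
        simp only [Module.End.mul_apply] at h
        rw [SetLike.mem_coe, Module.End.mem_eigenspace_iff] at ht ⊢
        rw [← h, ht, map_smul]
      have hWne : W ≠ ⊥ := fun h => by
        exact hc (Submodule.map_injective_of_injective T.injective_subtype
          (h.trans (Submodule.map_bot T.subtype).symm))
      have hWeq : W = T := eq_of_le_of_not_lt hWT fun hlt => hTmin W ⟨hWne, hWst⟩ hlt
      obtain ⟨t, ht, hte⟩ : (z : H) ∈ W := hWeq.symm.le z.2
      have htz : t = z := T.injective_subtype hte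
      rw [htz, SetLike.mem_coe, Module.End.mem_eigenspace_iff] at ht
      simpa using ht
    have hσpow : ∀ (g : G) (j : ℕ) (t : T), (((σ g - 1) ^ j) t : H) = ((π g - 1) ^ j) t := by
      intro g j
      induction j with
      | zero => intro t; simp
      | succ j ih =>
        intro t
        rw [pow_succ, pow_succ, Module.End.mul_apply, Module.End.mul_apply, ih]
        rfl
    have hσs : (σ x - 1) ^ s = 0 := LinearMap.ext fun t => Subtype.ext (by rw [hσpow, hs]; rfl)
    obtain ⟨c, hc⟩ := centralizer_scalar σ hx hsq hgen hσs h2 hschur hv hvp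
    have hker : ∀ y ∈ Subgroup.normalClosure (Set.range fun g : G => g * v * g⁻¹ * v⁻¹), σ y = 1 := by
      let K : Subgroup G :=
        { carrier := {y | σ y = 1}
          one_mem' := map_one σ
          mul_mem' := fun {a b} ha hb => by show σ (a * b) = 1; rw [map_mul, ha, hb, one_mul]
          inv_mem' := fun {a} ha => by
            show σ a⁻¹ = 1
            calc σ a⁻¹ = σ a⁻¹ * σ a := by rw [(ha : σ a = 1), mul_one]
              _ = 1 := by rw [← map_mul, inv_mul_cancel, map_one] }
      haveI : K.Normal := ⟨fun y hy g => by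
        show σ (g * y * g⁻¹) = 1
        rw [map_mul, map_mul, (hy : σ y = 1), mul_one, ← map_mul, mul_inv_cancel, map_one]⟩
      refine fun y hy => (Subgroup.normalClosure_le_normal (N := K) ?_) hy
      rintro _ ⟨g, rfl⟩
      show σ (g * v * g⁻¹ * v⁻¹) = 1
      rw [map_mul, map_mul, map_mul, hc, mul_smul_comm, mul_one, smul_mul_assoc, ← map_mul,
        mul_inv_cancel, map_one, smul_mul_assoc, one_mul, ← one_mul (σ v⁻¹), ← smul_mul_assoc, ← hc,
        ← map_mul, mul_inv_cancel, map_one]
    set τ := π.quotient T hTst with hτ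
    have hτpow : ∀ (g : G) (j : ℕ) (z : H), ((τ g - 1) ^ j) (T.mkQ z) = T.mkQ (((π g - 1) ^ j) z) := by
      intro g j
      induction j with
      | zero => intro z; simp
      | succ j ih =>
        intro z
        rw [pow_succ, pow_succ, Module.End.mul_apply, Module.End.mul_apply, ← ih]
        rfl
    have hτs : (τ x - 1) ^ s = 0 := LinearMap.ext fun q => by
      obtain ⟨z, rfl⟩ := T.mkQ_surjective q
      rw [hτpow, hs]; simp
    have hdim : Module.finrank k (H ⧸ T) ≤ d := by
      have h1 := T.finrank_quotient_add_finrank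
      have h3 : 0 < Module.finrank k T := Module.finrank_pos
      omega
    have hq := ih (H ⧸ T) τ hdim hτs u hu
    refine LinearMap.ext fun z => ?_
    have hmem : ((π u - 1) ^ d) z ∈ T := by
      rw [← Submodule.Quotient.mk_eq_zero, ← T.mkQ_apply, ← hτpow, hq]; rfl
    have h1 : ((σ u - 1 : Module.End k T) ^ 1) ⟨_, hmem⟩ = 0 := by rw [pow_one, hker u hu, sub_self]; rfl
    have h4 := hσpow u 1 ⟨_, hmem⟩
    rw [h1, pow_one] at h4
    rw [pow_succ', Module.End.mul_apply]
    exact h4.symm

section Character

variable {G : Type u} [Group G] [Fintype G] {M : Ideal AlgInt} [M.IsPrime]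

open Blocks in
/-- `p'`-elements centralizing `x` are central. -/
theorem central_of_irr (hM : IsPModular p M) {x : G} (hx : orderOf x = p) (hsq : ¬ p ^ 2 ∣ Nat.card G)
    (hnn : ∀ N : Subgroup G, N.Normal → Nat.card N ≠ p)
    (hgen : Subgroup.normalClosure ({x} : Set G) = ⊤) (χ : IrrCharacter G)
    (hfaith : ∀ g : G, (χ : G → ℂ) g = (χ : G → ℂ) 1 → g = 1) (hn : 2 * deg (χ : G → ℂ) ≤ p)
    {v : G} (hv : Commute x v) (hvp : ¬ p ∣ orderOf v) : v ∈ Subgroup.center G := by
  classical
  haveI := charP_res hM
  haveI := isAlgClosed_res hM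
  set n := deg (χ : G → ℂ) with hn_def
  have hnp : n < p := by have := hp.out.two_le; omega
  have hcl := isClassFunction_of_isIrr χ.2
  set c : G → Res M := fun g => red M (charL M χ g) with hc
  have hccl : ∀ a b : G, c (a * b) = c (b * a) := fun a b =>
    congrArg (red M) (Subtype.ext (isClassFunction_mul_comm hcl a b))
  -- right translation
  let Tr : Representation (Res M) G (G → Res M) :=
    { toFun := fun g => LinearMap.funLeft (Res M) (Res M) (fun u => u * g)
      map_one' := by ext f u; simp [LinearMap.funLeft_apply]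
      map_mul' := fun g h => by ext f u; simp [LinearMap.funLeft_apply, mul_assoc] }
  have hTr : ∀ (g : G) (f : G → Res M) (u : G), Tr g f u = f (u * g) := fun _ _ _ => rfl
  set W := Submodule.span (Res M) (Set.range fun g : G => Tr g c)
  have hWst : ∀ g, W ≤ W.comap (Tr g) := by
    intro g
    rw [Submodule.span_le]
    rintro _ ⟨h, rfl⟩
    show Tr g (Tr h c) ∈ W
    rw [← Module.End.mul_apply, ← map_mul]
    exact Submodule.subset_span ⟨_, rfl⟩
  set π := Tr.subrepresentation W hWst
  -- the minimal polynomial of `x`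
  have hs : (π x - 1) ^ n = 0 := by
    obtain ⟨m, ρ, -, hρ⟩ := χ.2
    have hm : m = n := by
      rw [hn_def, ← hρ, deg_eq_finrank, Module.finrank_fin_fun]
    subst hm
    obtain ⟨bb, ω, hb, hω⟩ := exists_eigenbasis (ρ x) hp.out.pos (by
      rw [← hx, ← map_pow, pow_orderOf_eq_one, map_one])
    have hint : ∀ i, ω i ∈ Loc M := fun i =>
      integral_mem_loc (IsIntegral.of_pow hp.out.pos (by rw [hω i]; exact isIntegral_one))
    set Q : Polynomial (Loc M) := ∏ i, (Polynomial.X - Polynomial.C ⟨ω i, hint i⟩) with hQ
    have hQmap : Q.map (red M) = ((Polynomial.X : Polynomial (Res M)) - 1) ^ n := by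
      rw [hQ, Polynomial.map_prod, Finset.prod_congr rfl fun i _ => ?_, Finset.prod_const,
        Finset.card_univ, Fintype.card_fin, Module.finrank_fin_fun]
      rw [Polynomial.map_sub, Polynomial.map_X, Polynomial.map_C,
        red_root_eq_one hM (k := 1) (Subtype.ext (by simp [hω i])), Polynomial.C_1]
    have hQρ : Polynomial.aeval (ρ x) (Q.map (Loc M).subtype) = 0 := by
      refine bb.ext fun i => ?_
      rw [hQ, Polynomial.map_prod, ← Finset.prod_erase_mul _ _ (Finset.mem_univ i), map_mul,
        Module.End.mul_apply, Polynomial.map_sub, Polynomial.map_X, Polynomial.map_C, map_sub,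
        Polynomial.aeval_X, Polynomial.aeval_C, LinearMap.sub_apply, hb i,
        Module.algebraMap_end_apply]
      simp
    have hrel : ∀ u : G, ∑ j ∈ Finset.range (Q.natDegree + 1), Q.coeff j * charL M χ (u * x ^ j) = 0 := by
      intro u
      refine Subtype.ext ?_
      push_cast
      simp only [coe_charL, ← hρ, Representation.character]
      have h1 := congrArg (fun T => LinearMap.trace ℂ _ (ρ u * T)) hQρ
      simp only [mul_zero, map_zero] at h1
      rw [← h1, Polynomial.aeval_eq_sum_range' (n := Q.natDegree + 1) (Nat.lt_succ_of_le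
        Polynomial.natDegree_map_le), Finset.mul_sum, map_sum]
      refine Finset.sum_congr rfl fun j _ => ?_
      rw [Polynomial.coeff_map, mul_smul_comm, map_smul, ← map_pow, ← map_mul]
      rfl
    have hz : ∀ (g u : G), (Polynomial.aeval (Tr x) (Q.map (red M))) (Tr g c) u = 0 := by
      intro g u
      rw [Polynomial.aeval_eq_sum_range' (n := Q.natDegree + 1) (Nat.lt_succ_of_le
        Polynomial.natDegree_map_le), LinearMap.sum_apply, Finset.sum_apply]
      have h := congrArg (red M) (hrel (g * u))
      rw [map_sum, map_zero] at h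
      rw [← h]
      refine Finset.sum_congr rfl fun j _ => ?_
      rw [Polynomial.coeff_map, LinearMap.smul_apply, Pi.smul_apply, smul_eq_mul, ← map_pow, hTr, hTr,
        map_mul, hccl, ← mul_assoc]
    have hzero : ∀ f ∈ W, ((Tr x - 1) ^ n) f = 0 := by
      have e : (Tr x - 1) ^ n = Polynomial.aeval (Tr x) (Q.map (red M)) := by
        rw [hQmap, map_pow, map_sub, Polynomial.aeval_X, map_one]
      intro f hf
      rw [← LinearMap.mem_ker, e]
      refine (Submodule.span_le.mpr ?_) hf
      rintro _ ⟨g, rfl⟩
      exact LinearMap.mem_ker.mpr (funext (hz g))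
    have hpow : ∀ (j : ℕ) (f : W), (((π x - 1) ^ j) f : G → Res M) = ((Tr x - 1) ^ j) f := by
      intro j
      induction j with
      | zero => intro f; simp
      | succ j ih =>
        intro f
        rw [pow_succ, pow_succ, Module.End.mul_apply, Module.End.mul_apply, ih]
        rfl
    exact LinearMap.ext fun f => Subtype.ext (by rw [hpow, hzero f f.2]; rfl)
  -- the representation is faithful
  have hkerord : ∀ u : G, π u = 1 → u = 1 := by
    let K : Subgroup G :=
      { carrier := {y | π y = 1}
        one_mem' := map_one π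
        mul_mem' := fun {a b} ha hb => by show π (a * b) = 1; rw [map_mul, ha, hb, one_mul]
        inv_mem' := fun {a} ha => by
          show π a⁻¹ = 1
          calc π a⁻¹ = π a⁻¹ * π a := by rw [(ha : π a = 1), mul_one]
            _ = 1 := by rw [← map_mul, inv_mul_cancel, map_one] }
    haveI hKn : K.Normal := ⟨fun y hy g => by
      show π (g * y * g⁻¹) = 1
      rw [map_mul, map_mul, (hy : π y = 1), mul_one, ← map_mul, mul_inv_cancel, map_one]⟩
    have hprime : ∀ q : ℕ, q.Prime → q ≠ p → ¬ q ∣ Nat.card K := by
      intro q hq hqp hd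
      haveI := Fact.mk hq
      obtain ⟨u, hu⟩ := exists_prime_orderOf_dvd_card' (G := K) q hd
      have hu' : orderOf (u : G) = q := by rw [Subgroup.orderOf_coe, hu]
      have hval : ∀ i : ℕ, c ((u : G) ^ i) = c 1 := by
        intro i
        have hui : π ((u : G) ^ i) = 1 := (K.pow_mem u.2 i : _)
        have h := congrFun (congrArg Subtype.val
          (LinearMap.congr_fun hui (⟨c, Submodule.subset_span ⟨1, by simp⟩⟩ : W))) 1
        simpa [π, hTr, ← map_pow] using h
      -- the average value is the multiplicity of the trivial character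
      haveI := Fintype.ofFinite (Subgroup.zpowers (u : G))
      set t := classInner (fun y : Subgroup.zpowers (u : G) => (χ : G → ℂ) y) fun _ => 1 with ht
      have htn : t = (mult (fun y : Subgroup.zpowers (u : G) => (χ : G → ℂ) y) fun _ => 1 : ℂ) :=
        mult_spec (isCharacter_restrict _ (isCharacter_of_isIrr χ.2)) isCharacter_one
      set r := mult (fun y : Subgroup.zpowers (u : G) => (χ : G → ℂ) y) fun _ => (1 : ℂ)
      have hsum : ∑ i ∈ Finset.range q, (χ : G → ℂ) ((u : G) ^ i) = (q : ℂ) * r := by
        rw [← htn, ht, classInner, Nat.card_zpowers, hu', ← mul_assoc,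
          mul_inv_cancel₀ (Nat.cast_ne_zero.mpr hq.ne_zero), one_mul,
          ← Fin.sum_univ_eq_sum_range (fun i => (χ : G → ℂ) ((u : G) ^ i))]
        conv_rhs => simp only [map_one, mul_one]
        subst hu'
        refine Fintype.sum_equiv (finEquivZPowers (isOfFinOrder_of_finite (u : G))) _ _ fun i => ?_
        rw [finEquivZPowers_apply]
      have hbound : ∀ i : ℕ, ((χ : G → ℂ) ((u : G) ^ i)).re ≤ n := fun i =>
        (Complex.re_le_norm _).trans ((norm_isCharacter_le (isCharacter_of_isIrr χ.2) _).trans (le_of_eq (by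
          rw [deg_eq (isCharacter_of_isIrr χ.2), Complex.natCast_re])))
      have hre := congrArg Complex.re hsum
      rw [Complex.re_sum, ← Nat.cast_mul, Complex.natCast_re] at hre
      have hrn : r ≤ n := by
        have h1 := Finset.sum_le_sum (s := Finset.range q) fun i _ => hbound i
        rw [hre, Finset.sum_const, Finset.card_range, nsmul_eq_mul] at h1
        exact Nat.le_of_mul_le_mul_left (by exact_mod_cast h1) hq.pos
      have hred : ((q * r : ℕ) : Res M) = ((q * n : ℕ) : Res M) := by
        have h1 : (((q * r : ℕ) : ℕ) : Loc M) = ∑ i ∈ Finset.range q, charL M χ ((u : G) ^ i) :=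
          Subtype.ext (by push_cast; simp only [coe_charL]; rw [hsum])
        rw [← map_natCast (red M), h1, map_sum, Finset.sum_congr rfl fun i _ => hval i, Finset.sum_const,
          Finset.card_range, nsmul_eq_mul, Nat.cast_mul]
        congr 1
        rw [hc, ← map_natCast (red M)]
        exact congrArg (red M) (Subtype.ext (by rw [coe_charL, deg_eq (isCharacter_of_isIrr χ.2), ← hn_def]; simp))
      have hrn' : r = n := by
        have h1 : ((r : ℕ) : Res M) = ((n : ℕ) : Res M) := by
          have hq0 : (q : Res M) ≠ 0 := by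
            rw [Ne, CharP.cast_eq_zero_iff (Res M) p, Nat.prime_dvd_prime_iff_eq hp.out hq]
            exact Ne.symm hqp
          push_cast at hred
          exact mul_left_cancel₀ hq0 hred
        exact CharP.natCast_injOn_Iio (Res M) p (lt_of_le_of_lt hrn hnp) hnp h1
      have hall : ∀ i ∈ Finset.range q, ((χ : G → ℂ) ((u : G) ^ i)).re = n := by
        refine (Finset.sum_eq_sum_iff_of_le fun i _ => hbound i).mp ?_
        rw [hre, hrn', Finset.sum_const, Finset.card_range, nsmul_eq_mul, Nat.cast_mul]
      have h1 := hall 1 (Finset.mem_range.mpr hq.one_lt)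
      rw [pow_one] at h1
      have h2 := norm_isCharacter_le (isCharacter_of_isIrr χ.2) (u : G)
      rw [deg_eq (isCharacter_of_isIrr χ.2), Complex.natCast_re, ← h1] at h2
      have h3 : ((χ : G → ℂ) (u : G)).im = 0 :=
        Complex.abs_re_eq_norm.mp (le_antisymm (Complex.abs_re_le_norm _) (h2.trans (le_abs_self _)))
      have h4 : (χ : G → ℂ) (u : G) = (χ : G → ℂ) 1 := by
        rw [deg_eq (isCharacter_of_isIrr χ.2)]
        refine Complex.ext ?_ ?_
        · rw [h1, Complex.natCast_re]
        · rw [h3, Complex.natCast_im]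
      rw [hfaith _ h4, orderOf_one] at hu'
      exact hq.one_lt.ne hu'
    have hcard : Nat.card K = 1 := by
      by_contra hne
      have hj' := Nat.eq_prime_pow_of_unique_prime_dvd (p := p) (Nat.card_pos (α := K)).ne'
        fun {q} hq1 hq2 => by_contra fun hqp => hprime q hq1 hqp hq2
      obtain ⟨j, hj⟩ : ∃ j, Nat.card K = p ^ j := ⟨_, hj'⟩
      rcases Nat.lt_trichotomy j 1 with h | h | h
      · rw [hj, show j = 0 by omega, pow_zero] at hne; exact hne rfl
      · rw [h, pow_one] at hj; exact hnn K hKn hj
      · exact hsq ((pow_dvd_pow p h).trans (hj ▸ Subgroup.card_subgroup_dvd_card K))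
    intro u hu
    exact (Subgroup.eq_bot_iff_forall K).mp (Subgroup.eq_bot_of_card_eq K hcard) u hu
  -- commutators with `v` form a `p`-group
  haveI : FiniteDimensional (Res M) W := inferInstance
  have huni := commutator_unipotent (s := n) hx hsq hgen hv hvp hn (Module.finrank (Res M) W) W π le_rfl hs
  set L := Subgroup.normalClosure (Set.range fun g : G => g * v * g⁻¹ * v⁻¹)
  have hLp : IsPGroup p L := by
    intro u
    refine ⟨Module.finrank (Res M) W, Subtype.ext (hkerord _ ?_)⟩
    rw [SubmonoidClass.coe_pow, map_pow]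
    have h := pow_eq_zero_of_le (Nat.lt_pow_self hp.out.one_lt).le (huni u u.2)
    rcases subsingleton_or_nontrivial (Module.End (Res M) W) with h' | h'
    · exact Subsingleton.elim _ _
    · haveI : CharP (Module.End (Res M) W) p :=
        charP_of_injective_algebraMap (algebraMap (Res M) _).injective p
      have e : (π (u : G) - 1 : Module.End (Res M) W) ^ p ^ Module.finrank (Res M) W =
          (π (u : G)) ^ p ^ Module.finrank (Res M) W - 1 ^ p ^ Module.finrank (Res M) W :=
        sub_pow_char_pow_of_commute (R := Module.End (Res M) W) _ _ (Commute.one_right _)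
      rw [e, one_pow] at h
      exact eq_of_sub_eq_zero h
  obtain ⟨j, hj⟩ := IsPGroup.iff_card.mp hLp
  have hL1 : L = ⊥ := by
    rcases Nat.lt_trichotomy j 1 with h | h | h
    · exact Subgroup.eq_bot_of_card_eq L (by rw [hj, show j = 0 by omega, pow_zero])
    · rw [h, pow_one] at hj; exact absurd hj (hnn L inferInstance)
    · exact absurd ((pow_dvd_pow p h).trans (hj ▸ Subgroup.card_subgroup_dvd_card L)) hsq
  rw [Subgroup.mem_center_iff]
  intro g
  have hg : g * v * g⁻¹ * v⁻¹ ∈ L := Subgroup.subset_normalClosure ⟨g, rfl⟩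
  rw [hL1, Subgroup.mem_bot, mul_inv_eq_one, mul_inv_eq_iff_eq_mul] at hg
  exact hg

end Character

end Cfsg.Agent.CT.SmallFaithful
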