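import Cfsg.Agent.Lib.Blocks.DefectOne
import Cfsg.Agent.Lib.Blocks.FirstMain
import Cfsg.Agent.Lib.CT.SelfCentralPSmall

/-!
# Sylow subgroups of prime order whose centralizer is central modulo the subgroup
-/

set_option autoImplicit false
set_option linter.unusedSectionVars false
set_option linter.style.haveILetI false

namespace Cfsg.Agent.CT.SmallFaithful

open scoped Cfsg.Agent.Blocks.D1
open Cfsg.Agent.Blocks

universe u

variable {p : ℕ} [hp : Fact p.Prime] {G : Type u} [Group G] [Fintype G] {P : Sylow p G}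
variable (S : D1.Setup P)

/-- The index of the centralizer in the normalizer. -/
noncomputable def ee : ℕ := by
  classical
  exact (Finset.univ.image S.u).card

theorem card_fiber [DecidableEq (ZMod p)] (n₀ : D1.cN P) :
    (Finset.univ.filter fun n => S.u n = S.u n₀).card = Nat.card (D1.cC P) := by
  classical
  rw [Nat.card_eq_fintype_card, ← Finset.card_univ]
  symm
  refine Finset.card_bij (fun c _ => n₀ * ⟨(c : G), Subgroup.centralizer_le_normalizer _ c.2⟩)
    (fun c _ => Finset.mem_filter.mpr ⟨Finset.mem_univ _, ?_⟩) (fun a _ b _ e => ?_) fun n hn => ?_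
  · rw [S.u_mul, (S.u_eq_one_iff ⟨(c : G), Subgroup.centralizer_le_normalizer _ c.2⟩).mpr c.2, mul_one]
  · exact Subtype.ext (congrArg (fun n : D1.cN P => (n : G)) (mul_left_cancel e))
  · refine ⟨⟨((n₀⁻¹ * n : D1.cN P) : G), (S.u_eq_one_iff _).mp ?_⟩, Finset.mem_univ _,
      mul_inv_cancel_left n₀ n⟩
    rw [S.u_mul, (Finset.mem_filter.mp hn).2, ← S.u_mul, inv_mul_cancel, S.u_one]

theorem card_cN : Nat.card (D1.cN P) = Nat.card (D1.cC P) * ee S := by
  classical
  rw [Nat.card_eq_fintype_card (α := D1.cN P), ← Finset.card_univ,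
    Finset.card_eq_sum_card_image S.u, Finset.sum_congr rfl fun b hb => ?_, Finset.sum_const,
    smul_eq_mul, mul_comm, ee]
  obtain ⟨n₀, -, rfl⟩ := Finset.mem_image.mp hb
  exact card_fiber S n₀

theorem ee_pos : 0 < ee S := by
  classical
  exact Finset.card_pos.mpr ⟨S.u 1, Finset.mem_image_of_mem _ (Finset.mem_univ _)⟩

theorem ee_lt : ee S < p := by
  classical
  have h : (Finset.univ.image S.u).card ≤ ((Finset.univ : Finset (ZMod p)).erase 0).card :=
    Finset.card_le_card fun i hi => by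
      obtain ⟨n, -, rfl⟩ := Finset.mem_image.mp hi
      exact Finset.mem_erase.mpr ⟨S.u_ne_zero n, Finset.mem_univ _⟩
  rw [Finset.card_erase_of_mem (Finset.mem_univ _), Finset.card_univ, ZMod.card] at h
  have := hp.out.pos
  have : ee S ≤ p - 1 := h
  omega

include S in
theorem card_eq_mul : Nat.card G = p * (P : Subgroup G).index := by
  rw [← Subgroup.card_mul_index (P : Subgroup G)]
  exact congrArg (· * _) S.card

include S in
theorem factorization_card : (Nat.card G).factorization p = 1 := by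
  rw [card_eq_mul S, Nat.factorization_mul hp.out.ne_zero Subgroup.index_ne_zero_of_finite]
  simp [hp.out.factorization_self, Nat.factorization_eq_zero_of_not_dvd P.not_dvd_index]

variable (hz : ∀ c : D1.cC P, S.ell c = 0 → (c : G) ∈ Subgroup.center G)

include hz in
theorem cC_comm (a b : D1.cC P) : a * b = b * a := by
  obtain ⟨y, hy, hy0⟩ := S.exists_decomp a
  rw [hy]
  have hy' : Commute y b := Subtype.ext (Subgroup.mem_center_iff.mp (hz y hy0) (b : G)).symm
  exact ((S.xC_central _ b).mul_left hy').eq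

include hz in
theorem cC_deg_one (θ : IrrCharacter (D1.cC P)) : (θ : D1.cC P → ℂ) 1 = 1 :=
  irr_degree_one_of_comm (cC_comm S hz) θ.2

include hz in
theorem stab_eq_top (θ : IrrCharacter (D1.cC P))
    (hθ : ∀ c : D1.cC P, (c : G) ∈ (P : Subgroup G) → (θ : D1.cC P → ℂ) c = (θ : D1.cC P → ℂ) 1) :
    D1.stab S θ = ⊤ := by
  refine top_le_iff.mp fun n _ c => ?_
  obtain ⟨y, hy, hy0⟩ := S.exists_decomp c
  have hny : S.cj n y = y := Subtype.ext (by
    rw [S.coe_cj, Subgroup.mem_center_iff.mp (hz y hy0) (n : G), mul_inv_cancel_right])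
  obtain ⟨k, hk⟩ := S.mem_P_iff.mp
    (show ((S.cj n (S.xC ^ (S.ell c).val) : D1.cC P) : G) ∈ (P : Subgroup G) from by
      rw [S.coe_cj]
      exact (Subgroup.mem_normalizer_iff.mp n.2 _).mp (S.mem_P_iff.mpr ⟨_, rfl⟩))
  rw [hy, map_mul, hny, hk, D1.theta_xpow_mul S θ hθ, D1.theta_xpow_mul S θ hθ]

include hz in
/-- The degree congruences. -/
theorem deg_modEq {M : Ideal AlgInt} [M.IsPrime] (hM : IsPModular p M) (χ : IrrCharacter G)
    (hn : ¬ p ∣ deg (χ : G → ℂ)) :
    ∃ s : ℤ, (s = 1 ∨ s = -1 ∨ s = ee S ∨ s = -(ee S : ℤ)) ∧ (deg (χ : G → ℂ) : ℤ) ≡ s [ZMOD p] := by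
  classical
  haveI := charP_res hM
  set B := blockOf M (χ : G → ℂ)
  have hB : IsPBlock M B := isPBlock_blockOf χ
  obtain ⟨D, hD⟩ := exists_defectGroup (p := p) hB
  obtain ⟨g, hg, -, -, hDcard⟩ := defectGroup_spec hD
  have hle := le_factorization_of_defectClass hM hg (self_mem_blockOf χ)
  rw [show (charDegree (χ : G → ℂ)).factorization p = 0 from
    Nat.factorization_eq_zero_of_not_dvd hn, add_zero] at hle
  have hge : (Nat.card (Subgroup.centralizer ({g} : Set G))).factorization p ≤
      (Nat.card G).factorization p :=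
    (Nat.factorization_le_iff_dvd Nat.card_pos.ne' Nat.card_pos.ne').mpr
      (Subgroup.card_subgroup_dvd_card _) p
  rw [le_antisymm hge hle] at hDcard
  obtain ⟨t, ht⟩ := MulAction.exists_smul_eq G (Sylow.ofCard D hDcard) P
  have hBP : IsDefectGroup p M B (P : Subgroup G) := by
    rw [← ht, Sylow.coe_subgroup_smul]
    exact isDefectGroup_conj hD t
  obtain ⟨ξ, hind⟩ := exists_block_inducing hM P.2 S.P_le_cC le_rfl
    (Subgroup.centralizer_le_normalizer _) hB
    ((br_bBar_ne_zero_iff hM hB hBP P.2).mpr ⟨1, by rw [Blocks.map_conj_one]⟩)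
  obtain ⟨θ, ⟨hθb, hθ⟩, -⟩ := (D1.card_block_of_induced S hM hBP hind).1
  obtain ⟨e, X, Y, εX, ε, hst, -, hXY, -, -, -, hX, hε, hY, -, -⟩ :=
    D1.exists_structure S θ hθ hM hBP hind hθb
  have htop := stab_eq_top S hz θ hθ
  have hd : charDegree (θ : D1.cC P → ℂ) = 1 := by
    have h := deg_eq (isCharacter_of_isIrr θ.2)
    rw [cC_deg_one S hz θ] at h
    exact_mod_cast h.symm
  have he : e = ee S := by
    rw [htop, Subgroup.card_top, card_cN S] at hst
    exact (Nat.eq_of_mul_eq_mul_left Nat.card_pos hst).symm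
  subst he
  have hmem : χ ∈ X ∪ Y := hXY ▸ self_mem_blockOf χ
  rcases hmem with hm | hm
  · obtain ⟨hs, hcong, -⟩ := hX χ hm
    rw [htop, Subgroup.index_top, hd, mul_one, Nat.cast_one, mul_one] at hcong
    refine ⟨εX χ, ?_, hcong⟩
    rcases hs with h | h <;> simp [h]
  · have hcong := hY χ hm
    rw [htop, Subgroup.index_top, hd, mul_one, one_mul] at hcong
    refine ⟨ε * (ee S : ℤ), ?_, hcong⟩
    rcases hε with h | h <;> simp [h]

end Cfsg.Agent.CT.SmallFaithful
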