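import Mathlib.RepresentationTheory.Basic
import Mathlib.GroupTheory.Sylow
import Mathlib.LinearAlgebra.Eigenspace.Basic
import Mathlib.LinearAlgebra.Eigenspace.Minpoly
import Mathlib.LinearAlgebra.Eigenspace.Triangularizable
import Mathlib.FieldTheory.IsAlgClosed.Basic
import Mathlib.Algebra.CharP.Basic
import Mathlib.Algebra.CharP.Lemmas

/-!
# Modular representations in which an element of order `p` has a small minimal polynomial

If the group is generated by the conjugates of `x`, with `p` exactly dividing its order, and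
`(x - 1)^s = 0` with `2 s ≤ p` in a simple module, then the centralizer of `x` has only trivial
idempotents there, so its `p'`-elements act by scalars.
-/

set_option autoImplicit false
set_option linter.unusedSectionVars false

namespace Cfsg.Agent.CT.SmallFaithful

universe u v w

variable {k : Type v} [Field k] {p : ℕ} [hp : Fact p.Prime] [CharP k p]

theorem geom_sum_eq_pow {A : Type w} [Ring A] [Algebra k A] (X : A) :
    ∑ i ∈ Finset.range p, X ^ i = (X - 1) ^ (p - 1) := by
  have h : (∑ i ∈ Finset.range p, (Polynomial.X : Polynomial k) ^ i) =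
      ((Polynomial.X : Polynomial k) - 1) ^ (p - 1) := by
    refine mul_right_cancel₀ (b := (Polynomial.X : Polynomial k) - 1) ?_ ?_
    · simpa using Polynomial.X_sub_C_ne_zero (1 : k)
    · rw [geom_sum_mul, ← pow_succ, Nat.sub_add_cancel hp.out.one_lt.le, sub_pow_char, one_pow]
  simpa using congrArg (Polynomial.aeval X) h

variable {G : Type u} [Group G] [Finite G]

/-- The sum over the cyclic subgroup generated by `x`. -/
theorem sum_zpowers {E : Type w} [AddCommGroup E] [Module k E] (π : Representation k G E) {x : G}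
    (hx : orderOf x = p) [Fintype (Subgroup.zpowers x)] :
    ∑ y : Subgroup.zpowers x, π (y : G) = (π x - 1) ^ (p - 1) := by
  rw [← geom_sum_eq_pow (k := k), ← Fin.sum_univ_eq_sum_range, ← hx]
  refine (Fintype.sum_equiv (finEquivZPowers (isOfFinOrder_of_finite x)) _ _ fun i => ?_).symm
  rw [finEquivZPowers_apply, ← map_pow]

/-- An idempotent commuting with the normalizer of `⟨x⟩`, with fixed image and killing the
commutators, commutes with the whole group. -/
theorem lift_endo {E : Type w} [AddCommGroup E] [Module k E] (π : Representation k G E) {x : G}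
    (hx : orderOf x = p) (hsq : ¬ p ^ 2 ∣ Nat.card G) (hs : (π x - 1) ^ (p - 1) = 0)
    {a : Module.End k E} (hN : ∀ n ∈ Subgroup.normalizer (Subgroup.zpowers x : Set G), π n * a = a * π n)
    (hl : π x * a = a) (hr : a * π x = a) (ha : a * a = a) (g : G) : π g * a = a * π g := by
  classical
  set P := Subgroup.zpowers x
  set Nm := Subgroup.normalizer (P : Set G)
  haveI := Fintype.ofFinite G
  haveI := Fintype.ofFinite (G ⧸ P)
  have hmul : ∀ g h : G, π g * π h = π (g * h) := fun g h => (map_mul π g h).symm
  have hinv : ∀ g : G, π g * π g⁻¹ = 1 := fun g => by rw [hmul, mul_inv_cancel, map_one]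
  have hlP : ∀ y ∈ P, π y * a = a := by
    intro y hy
    obtain ⟨i, rfl⟩ := (mem_powers_iff_mem_zpowers (x := x)).mpr hy
    show π (x ^ i) * a = a
    induction i with
    | zero => rw [pow_zero, map_one, one_mul]
    | succ i ih => rw [pow_succ, map_mul, mul_assoc, hl, ih (Subgroup.pow_mem _ (Subgroup.mem_zpowers x) i)]
  have hrP : ∀ y ∈ P, a * π y = a := by
    intro y hy
    obtain ⟨i, rfl⟩ := (mem_powers_iff_mem_zpowers (x := x)).mpr hy
    show a * π (x ^ i) = a
    induction i with
    | zero => rw [pow_zero, map_one, mul_one]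
    | succ i ih => rw [pow_succ', map_mul, ← mul_assoc, hr, ih (Subgroup.pow_mem _ (Subgroup.mem_zpowers x) i)]
  set f : G ⧸ P → Module.End k E := fun q => π q.out * a * π q.out⁻¹ with hf
  have hfmk : ∀ g : G, f (g : G ⧸ P) = π g * a * π g⁻¹ := by
    intro g
    obtain ⟨⟨y, hy⟩, e⟩ := QuotientGroup.mk_out_eq_mul P g
    show π _ * a * π _⁻¹ = _
    rw [e, mul_inv_rev, map_mul, map_mul, mul_assoc (π g), hlP y hy, ← mul_assoc, mul_assoc (π g),
      hrP _ (P.inv_mem hy)]
  have hfsmul : ∀ (g : G) (q : G ⧸ P), f (g • q) = π g * f q * π g⁻¹ := by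
    intro g q
    induction q using QuotientGroup.induction_on with
    | _ h =>
      rw [show g • (h : G ⧸ P) = ((g * h : G) : G ⧸ P) from rfl, hfmk, hfmk, map_mul, mul_inv_rev,
        map_mul]
      simp only [mul_assoc]
  set inN : G ⧸ P → Prop := fun q => q.out ∈ Nm
  have hinN : ∀ g : G, inN (g : G ⧸ P) ↔ g ∈ Nm := by
    intro g
    obtain ⟨⟨y, hy⟩, e⟩ := QuotientGroup.mk_out_eq_mul P g
    show ((g : G ⧸ P).out) ∈ Nm ↔ _
    rw [e]
    exact Nm.mul_mem_cancel_right (Subgroup.le_normalizer hy)
  set T : Module.End k E := ∑ q, f q with hT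
  have hTg : ∀ g : G, π g * T = T * π g := by
    intro g
    have e : π g * T * π g⁻¹ = T := by
      rw [hT, Finset.mul_sum, Finset.sum_mul]
      exact Fintype.sum_equiv (MulAction.toPerm g) _ _ fun q => (hfsmul g q).symm
    calc π g * T = π g * T * (π g⁻¹ * π g) := by rw [hmul, inv_mul_cancel, map_one, mul_one]
      _ = T * π g := by rw [← mul_assoc, e]
  set m := (Finset.univ.filter inN).card
  have hin : ∑ q ∈ Finset.univ.filter inN, f q = m • a := by
    rw [Finset.sum_congr rfl fun q hq => (show f q = a by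
      show π q.out * a * π q.out⁻¹ = a
      rw [hN _ (Finset.mem_filter.mp hq).2, mul_assoc, hinv, mul_one]), Finset.sum_const]
  set R : Module.End k E := ∑ q ∈ Finset.univ.filter (fun q => ¬ inN q), f q with hR
  have hTR : T = m • a + R := by rw [hT, ← Finset.sum_filter_add_sum_filter_not _ inN, hin]
  -- the orbits outside the normalizer are regular
  let S := {q : G ⧸ P // ¬ inN q}
  haveI : Fintype S := inferInstance
  have hstab : ∀ (y : P) (q : G ⧸ P), ¬ inN q → ¬ inN ((y : G) • q) := by
    intro y q
    induction q using QuotientGroup.induction_on with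
    | _ h =>
      rw [show (y : G) • (h : G ⧸ P) = (((y : G) * h : G) : G ⧸ P) from rfl, hinN, hinN]
      exact fun hh hc => hh ((Nm.mul_mem_cancel_left (Subgroup.le_normalizer y.2)).mp hc)
  letI : MulAction P S :=
    { smul := fun y q => ⟨(y : G) • q.1, hstab y q.1 q.2⟩
      one_smul := fun q => Subtype.ext (one_smul G q.1)
      mul_smul := fun y z q => Subtype.ext (mul_smul (y : G) (z : G) q.1) }
  have hfree : ∀ (y : P) (q : S), y • q = q → y = 1 := by
    intro y q hyq
    by_contra hy
    apply q.2
    obtain ⟨g, hg⟩ := QuotientGroup.mk_surjective q.1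
    have e : ((y : G) • (q.1 : G ⧸ P)) = q.1 := congrArg Subtype.val hyq
    rw [← hg] at e ⊢
    rw [show (y : G) • (g : G ⧸ P) = (((y : G) * g : G) : G ⧸ P) from rfl, QuotientGroup.eq] at e
    have h1 : g⁻¹ * y * g ∈ P := by
      have := P.inv_mem e
      simpa [mul_inv_rev, mul_assoc] using this
    rw [hinN]
    have hgen : P = Subgroup.zpowers (y : G) := by
      refine (Subgroup.eq_of_le_of_card_ge (Subgroup.zpowers_le.mpr y.2) ?_).symm
      have hd : orderOf (y : G) ∣ p := hx ▸ orderOf_dvd_of_mem_zpowers y.2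
      rcases hp.out.eq_one_or_self_of_dvd _ hd with h | h
      · rw [orderOf_eq_one_iff] at h
        exact absurd (Subtype.ext h) hy
      · rw [Nat.card_zpowers, Nat.card_zpowers, hx, h]
    rw [← inv_mem_iff (H := Nm)]
    have hle : P.map (MulAut.conj g⁻¹).toMonoidHom ≤ P := by
      conv_lhs => rw [hgen]
      rw [MonoidHom.map_zpowers, Subgroup.zpowers_le]
      simpa using h1
    have heq : P.map (MulAut.conj g⁻¹).toMonoidHom = P := Subgroup.eq_of_le_of_card_ge hle
      (le_of_eq (Nat.card_congr (Subgroup.equivMapOfInjective P _ (MulAut.conj g⁻¹).injective).toEquiv))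
    rw [Subgroup.mem_normalizer_iff]
    intro z
    constructor
    · intro hz
      rw [← heq]
      exact ⟨z, hz, rfl⟩
    · intro hz
      rw [← heq] at hz
      obtain ⟨w, hw, hwe⟩ := hz
      rwa [(MulAut.conj g⁻¹).injective hwe] at hw
  letI := Fintype.ofFinite P
  letI := Fintype.ofFinite (MulAction.orbitRel.Quotient P S)
  let φ : MulAction.orbitRel.Quotient P S × P → S := fun wy => wy.2 • (Quotient.out wy.1)
  have hφ : Function.Bijective φ := by
    constructor
    · rintro ⟨w, y⟩ ⟨w', y'⟩ h
      have hq : w = w' := by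
        have h' := congrArg (Quotient.mk (MulAction.orbitRel P S)) h
        have e1 : ∀ (y : P) (s : S), Quotient.mk (MulAction.orbitRel P S) (y • s) =
            Quotient.mk (MulAction.orbitRel P S) s := fun y s =>
          Quotient.sound ⟨y, rfl⟩
        simp only [φ, e1, Quotient.out_eq] at h'
        exact h'
      subst hq
      have : (y'⁻¹ * y) • Quotient.out w = Quotient.out w := by
        rw [mul_smul, show y • Quotient.out w = y' • Quotient.out w from h, inv_smul_smul]
      exact Prod.ext rfl (inv_mul_eq_one.mp (hfree _ _ this)).symm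
    · intro s
      obtain ⟨y, hy⟩ : s ∈ MulAction.orbit P (Quotient.out (Quotient.mk (MulAction.orbitRel P S) s)) :=
        MulAction.orbitRel_apply.mp
          (Quotient.exact (Quotient.out_eq (Quotient.mk (MulAction.orbitRel P S) s)).symm)
      exact ⟨(_, y), hy⟩
  have hsum : ∑ y : P, π (y : G) = 0 := by rw [sum_zpowers π hx, hs]
  have hRsum : R = ∑ w : MulAction.orbitRel.Quotient P S, ∑ y : P,
      π (y : G) * f (Quotient.out w).1 * π (y : G)⁻¹ := by
    refine Eq.trans ?_ (Fintype.sum_prod_type (fun wy : MulAction.orbitRel.Quotient P S × P =>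
      π (wy.2 : G) * f (Quotient.out wy.1).1 * π (wy.2 : G)⁻¹))
    rw [hR, Finset.sum_subtype _ (p := fun q => ¬ inN q) (fun q => by simp)]
    symm
    refine Fintype.sum_bijective φ hφ _ _ fun wy => ?_
    exact (hfsmul _ _).symm
  have hRfix : ∀ v : E, π x v = v → R v = 0 := by
    intro v hv
    have hvP : ∀ y ∈ P, π y v = v := by
      intro y hy
      obtain ⟨i, rfl⟩ := (mem_powers_iff_mem_zpowers (x := x)).mpr hy
      show π (x ^ i) v = v
      induction i with
      | zero => rw [pow_zero, map_one]; rfl
      | succ i ih =>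
        rw [pow_succ, map_mul, Module.End.mul_apply, hv, ih (Subgroup.pow_mem _ (Subgroup.mem_zpowers x) i)]
    rw [hRsum, LinearMap.sum_apply]
    refine Finset.sum_eq_zero fun w _ => ?_
    rw [LinearMap.sum_apply, Finset.sum_congr rfl fun (y : P) _ => (show
      (π (y : G) * f (Quotient.out w).1 * π (y : G)⁻¹) v = π (y : G) (f (Quotient.out w).1 v) by
        rw [Module.End.mul_apply, Module.End.mul_apply, hvP _ (P.inv_mem y.2)]),
      ← LinearMap.sum_apply, hsum, LinearMap.zero_apply]
  have hRa : R * a = 0 := LinearMap.ext fun v => hRfix (a v) (LinearMap.congr_fun hl v)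
  have haR : a * R = 0 := by
    rw [hRsum, Finset.mul_sum]
    refine Finset.sum_eq_zero fun w _ => ?_
    rw [Finset.mul_sum, Finset.sum_congr rfl fun (y : P) _ => (show
      a * (π (y : G) * f (Quotient.out w).1 * π (y : G)⁻¹) = a * f (Quotient.out w).1 * π (y : G)⁻¹ by
        rw [← mul_assoc, ← mul_assoc, hrP _ y.2]), ← Finset.mul_sum]
    have : ∑ y : P, π (y : G)⁻¹ = 0 := by
      rw [← hsum]
      exact Fintype.sum_equiv (Equiv.inv P) _ _ fun y => rfl
    rw [this, mul_zero]
  have hRx : π x * R = R * π x := by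
    have h1 := hTg x
    rw [hTR, mul_add, add_mul, mul_smul_comm, smul_mul_assoc, hl, hr] at h1
    exact add_left_cancel h1
  have hRnil : ∀ j : ℕ, ∀ v : E, ((π x - 1) ^ j) v = 0 → (R ^ j) v = 0 := by
    intro j
    induction j with
    | zero => intro v hv; simpa using hv
    | succ j ih =>
      intro v hv
      rw [pow_succ, Module.End.mul_apply]
      refine ih _ ?_
      have hc : Commute ((π x - 1) ^ j) R :=
        ((show Commute (π x) R from hRx).sub_left (Commute.one_left R)).pow_left j
      rw [← Module.End.mul_apply, hc.eq, Module.End.mul_apply]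
      refine hRfix _ ?_
      rw [pow_succ', Module.End.mul_apply, LinearMap.sub_apply, Module.End.one_apply, sub_eq_zero] at hv
      exact hv
  have hR0 : R ^ (p - 1) = 0 := LinearMap.ext fun v => hRnil _ v (by rw [hs]; rfl)
  have hpow : ∀ j : ℕ, T ^ (j + 1) = (m ^ (j + 1)) • a + R ^ (j + 1) := by
    intro j
    induction j with
    | zero => simpa using hTR
    | succ j ih =>
      have hRja : R ^ (j + 1) * a = 0 := by rw [pow_succ, mul_assoc, hRa, mul_zero]
      rw [pow_succ T, ih, hTR, add_mul, mul_add, mul_add, smul_mul_smul_comm, ha, smul_mul_assoc, haR,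
        smul_zero, mul_smul_comm, hRja, smul_zero, add_zero, zero_add, ← pow_succ, ← pow_succ]
  have hm : (m : k) ≠ 0 := by
    rw [Ne, CharP.cast_eq_zero_iff k p]
    intro hd
    apply hsq
    have hmi : m = (P.subgroupOf Nm).index := by
      rw [Subgroup.index_eq_card, show m = Fintype.card {q // inN q} from (Fintype.card_subtype _).symm,
        ← Nat.card_eq_fintype_card]
      refine (Nat.card_eq_of_bijective (fun c : Nm ⧸ P.subgroupOf Nm =>
        (⟨((c.out : Nm) : G), (hinN _).mpr c.out.2⟩ : {q : G ⧸ P // inN q})) ⟨?_, ?_⟩).symm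
      · intro c d h
        have h' := congrArg Subtype.val h
        simp only [QuotientGroup.eq] at h'
        rw [← c.out_eq, ← d.out_eq]
        exact Quotient.sound (QuotientGroup.leftRel_apply.mpr (Subgroup.mem_subgroupOf.mpr (by simpa using h')))
      · rintro ⟨q, hq⟩
        refine ⟨((⟨q.out, hq⟩ : Nm) : Nm ⧸ P.subgroupOf Nm), Subtype.ext ?_⟩
        obtain ⟨y, hy⟩ := QuotientGroup.mk_out_eq_mul (P.subgroupOf Nm) (⟨q.out, hq⟩ : Nm)
        show (((_ : Nm) : G) : G ⧸ P) = q
        rw [hy]
        conv_rhs => rw [← q.out_eq]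
        exact QuotientGroup.eq.mpr (by
          have := P.inv_mem (Subgroup.mem_subgroupOf.mp y.2)
          simpa [mul_assoc] using this)
    have h1 := (P.subgroupOf Nm).card_mul_index
    rw [Nat.card_congr (Subgroup.subgroupOfEquivOfLe (Subgroup.le_normalizer (H := P))).toEquiv,
      Nat.card_zpowers, hx, ← hmi] at h1
    refine dvd_trans ?_ (Subgroup.card_subgroup_dvd_card Nm)
    rw [← h1, sq]
    exact mul_dvd_mul_left p hd
  have key := hpow (p - 2)
  rw [show p - 2 + 1 = p - 1 from by have := hp.out.two_le; omega, hR0, add_zero] at key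
  have hc : Commute (π g) (((m ^ (p - 1) : ℕ)) • a) := key ▸ (show Commute (π g) T from hTg g).pow_right _
  rw [← Nat.cast_smul_eq_nsmul k] at hc
  have hne : ((m ^ (p - 1) : ℕ) : k) ≠ 0 := by rw [Nat.cast_pow]; exact pow_ne_zero _ hm
  have := hc.smul_right ((m ^ (p - 1) : ℕ) : k)⁻¹
  rwa [inv_smul_smul₀ hne] at this

end Cfsg.Agent.CT.SmallFaithful
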