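import Cfsg.Agent.Lib.CT.SmallFaithful.Local

/-!
# A small faithful character on the centralizer of the Sylow subgroup
-/

set_option autoImplicit false
set_option linter.unusedSectionVars false
set_option linter.style.haveILetI false

namespace Cfsg.Agent.CT.SmallFaithful

open scoped Cfsg.Agent.Blocks.D1 ComplexConjugate
open Cfsg.Agent.Blocks Cfsg.Agent.CT.SelfCentralP

universe u

variable {p : ℕ} [hp : Fact p.Prime] {G : Type u} [Group G] [Fintype G] {P : Sylow p G}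
variable (S : D1.Setup P)

open Classical in
/-- The orbit of `c₀` under the action of the normalizer. -/
noncomputable def orbS (c₀ : ZMod p) : Finset (ZMod p) :=
  Finset.univ.image fun n : D1.cN P => c₀ * S.u n

theorem mem_orbS {c₀ i : ZMod p} : i ∈ orbS S c₀ ↔ ∃ n : D1.cN P, c₀ * S.u n = i := by
  classical
  simp [orbS]

theorem self_mem_orbS (c₀ : ZMod p) : c₀ ∈ orbS S c₀ :=
  (mem_orbS S).mpr ⟨1, by rw [S.u_one, mul_one]⟩

theorem zero_notMem_orbS {c₀ : ZMod p} (h : c₀ ≠ 0) : (0 : ZMod p) ∉ orbS S c₀ := fun hm => by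
  obtain ⟨n, hn⟩ := (mem_orbS S).mp hm
  exact mul_ne_zero h (S.u_ne_zero n) hn

theorem card_orbS {c₀ : ZMod p} (h : c₀ ≠ 0) : (orbS S c₀).card = ee S := by
  classical
  rw [orbS, show (fun n : D1.cN P => c₀ * S.u n) = (fun i => c₀ * i) ∘ S.u from rfl,
    ← Finset.image_image, Finset.card_image_of_injective _ (mul_right_injective₀ h), ee]

theorem disjoint_orbS {c₀ x : ZMod p} (hx : x ∉ orbS S c₀) :
    Disjoint (orbS S c₀) (orbS S x) := by
  rw [Finset.disjoint_left]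
  intro i hi hi'
  obtain ⟨n, rfl⟩ := (mem_orbS S).mp hi
  obtain ⟨m, hm⟩ := (mem_orbS S).mp hi'
  refine hx ((mem_orbS S).mpr ⟨n * m⁻¹, mul_right_cancel₀ (S.u_ne_zero m) ?_⟩)
  rw [mul_assoc, ← S.u_mul, inv_mul_cancel_right, hm]

/-- All members of `ℤ/p` are exponents of roots of unity. -/
theorem exists_psi_eq {z : ℂ} (hz : z ^ p = 1) : ∃ i : ZMod p, D1.psi i = z := by
  haveI : NeZero p := ⟨hp.out.ne_zero⟩
  have hpow : ∀ (i : ZMod p) (m : ℕ), D1.psi i ^ m = D1.psi ((m : ZMod p) * i) := by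
    intro i m
    induction m with
    | zero => simp [D1.psi_zero]
    | succ m ih => rw [pow_succ, ih, Nat.cast_succ, add_mul, one_mul, D1.psi_add]
  have hprim : IsPrimitiveRoot (D1.psi (1 : ZMod p)) p := by
    refine IsPrimitiveRoot.mk_of_lt _ hp.out.pos ?_ fun l hl hlp h => ?_
    · rw [hpow, ZMod.natCast_self, zero_mul, D1.psi_zero]
    · rw [hpow, mul_one, ← D1.psi_zero (p := p)] at h
      exact hl.ne' (by
        have := congrArg ZMod.val (D1.psi_injective h)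
        rwa [ZMod.val_natCast_of_lt hlp, ZMod.val_zero] at this)
  obtain ⟨i, -, hi⟩ := hprim.eq_pow_of_pow_eq_one hz
  exact ⟨(i : ZMod p), by rw [← hi, hpow, mul_one]⟩

variable (hz : ∀ c : D1.cC P, S.ell c = 0 → (c : G) ∈ Subgroup.center G)

include hz in
theorem deg_eq_sum_mu {f : G → ℂ} (hf : IsCharacter G f) :
    deg f = ∑ η : IrrCharacter (D1.cC P), mu (D1.cC P) f η := by
  have e := congrFun (character_eq_sum (isCharacter_restrict (D1.cC P) hf)) 1
  simp only [Finset.sum_apply, Pi.smul_apply, smul_eq_mul, cC_deg_one S hz, mul_one,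
    OneMemClass.coe_one, deg_eq hf] at e
  exact_mod_cast e

include hz in
/-- A linear character of the centralizer is one of the `Lam θ i`. -/
theorem exists_theta (l : IrrCharacter (D1.cC P)) :
    ∃ θ : IrrCharacter (D1.cC P),
      (∀ c : D1.cC P, (c : G) ∈ (P : Subgroup G) → (θ : D1.cC P → ℂ) c = (θ : D1.cC P → ℂ) 1) ∧
      ∃ i, D1.Lam S θ i = l := by
  obtain ⟨lam, hlam⟩ := exists_hom_of_comm (cC_comm S hz) l.2
  have hp0 : (lam S.xC : ℂ) ^ p = 1 := by
    have e := pow_orderOf_eq_one S.xC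
    rw [S.orderOf_xC] at e
    rw [← Units.val_pow_eq_pow_val, ← map_pow, e, map_one, Units.val_one]
  obtain ⟨i, hi⟩ := exists_psi_eq hp0
  let tw : D1.cC P →* ℂˣ :=
    { toFun := fun c => Units.mk0 (D1.psi (-i * S.ell c)) (D1.psi_ne_zero _) * lam c
      map_one' := Units.ext (by simp [S.ell_one, D1.psi_zero])
      map_mul' := fun a b => Units.ext (by
        simp only [S.ell_mul, mul_add, D1.psi_add, map_mul, Units.val_mul, Units.val_mk0]
        ring) }
  refine ⟨⟨_, isIrrCharacter_lin tw⟩, fun c hc => ?_, i, Subtype.ext (funext fun c => ?_)⟩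
  · obtain ⟨k, rfl⟩ := S.mem_P_iff.mp hc
    show ((tw _ : ℂˣ) : ℂ) = ((tw 1 : ℂˣ) : ℂ)
    rw [map_pow, map_one, Units.val_pow_eq_pow_val, Units.val_one]
    simp only [tw, MonoidHom.coe_mk, OneHom.coe_mk, Units.val_mul, Units.val_mk0]
    rw [← hi, S.ell_xC, mul_one, ← D1.psi_add, neg_add_cancel, D1.psi_zero, one_pow]
  · rw [D1.Lam_apply, hlam]
    show D1.psi (i * S.ell c) * ((tw c : ℂˣ) : ℂ) = _
    simp only [tw, MonoidHom.coe_mk, OneHom.coe_mk, Units.val_mul, Units.val_mk0]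
    rw [← mul_assoc, ← D1.psi_add, neg_mul, add_neg_cancel, D1.psi_zero, one_mul]

variable {M : Ideal AlgInt} [M.IsPrime]

include hz in
open Classical in
/-- The restriction to the centralizer is one orbit, without multiplicity. -/
theorem exists_orbit (hM : IsPModular p M) (χ : IrrCharacter G)
    (hfaith : ∀ g : G, (χ : G → ℂ) g = (χ : G → ℂ) 1 → g = 1) (h2 : 2 ≤ deg (χ : G → ℂ))
    (hlt : 2 * deg (χ : G → ℂ) + 1 < p) :
    ∃ θ : IrrCharacter (D1.cC P),
      (∀ c : D1.cC P, (c : G) ∈ (P : Subgroup G) → (θ : D1.cC P → ℂ) c = (θ : D1.cC P → ℂ) 1) ∧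
      ∃ c₀ : ZMod p, c₀ ≠ 0 ∧ deg (χ : G → ℂ) = ee S ∧ ∀ η : IrrCharacter (D1.cC P),
        mu (D1.cC P) (χ : G → ℂ) η = if η ∈ (orbS S c₀).image (D1.Lam S θ) then 1 else 0 := by
  set n := deg (χ : G → ℂ) with hndef
  have hχ := isCharacter_of_isIrr χ.2
  -- a constituent not trivial on the generator
  obtain ⟨l, hl, hlx⟩ : ∃ l : IrrCharacter (D1.cC P), mu (D1.cC P) (χ : G → ℂ) l ≠ 0 ∧
      (l : D1.cC P → ℂ) S.xC ≠ 1 := by
    by_contra hall
    push Not at hall
    have e := congrFun (character_eq_sum (isCharacter_restrict (D1.cC P) hχ)) S.xC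
    have e1 := congrFun (character_eq_sum (isCharacter_restrict (D1.cC P) hχ)) 1
    simp only [Finset.sum_apply, Pi.smul_apply, smul_eq_mul] at e e1
    refine hp.out.ne_one (S.hx.symm.trans ?_)
    rw [orderOf_eq_one_iff]
    refine hfaith _ (e.trans (Eq.trans ?_ (e1.symm.trans (by rw [OneMemClass.coe_one]))))
    refine Finset.sum_congr rfl fun η _ => ?_
    by_cases hη : mu (D1.cC P) (χ : G → ℂ) η = 0
    · rw [show mult (fun c : D1.cC P => (χ : G → ℂ) c) (η : D1.cC P → ℂ) = 0 from hη,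
        Nat.cast_zero, zero_mul, zero_mul]
    · rw [hall η hη, cC_deg_one S hz η]
  obtain ⟨θ, hθ, c₀, rfl⟩ := exists_theta S hz l
  have hc0 : c₀ ≠ 0 := fun h => hlx (by
    rw [h, D1.Lam_zero, hθ _ (S.x_mem_P), cC_deg_one S hz θ])
  refine ⟨θ, hθ, c₀, hc0, ?_⟩
  set O := (orbS S c₀).image (D1.Lam S θ)
  have hm : ∀ η ∈ O, mu (D1.cC P) (χ : G → ℂ) η = mu (D1.cC P) (χ : G → ℂ) (D1.Lam S θ c₀) := by
    intro η hη
    obtain ⟨i, hi, rfl⟩ := Finset.mem_image.mp hη
    obtain ⟨m, rfl⟩ := (mem_orbS S).mp hi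
    exact D1.mlt_stab S θ hθ (stab_eq_top S hz θ hθ ▸ Subgroup.mem_top m) χ c₀
  have hcardO : O.card = ee S := by
    rw [Finset.card_image_of_injective _ (D1.Lam_injective S θ hθ), card_orbS S hc0]
  set m₀ := mu (D1.cC P) (χ : G → ℂ) (D1.Lam S θ c₀)
  have hsum : n = ee S * m₀ + ∑ η ∈ Oᶜ, mu (D1.cC P) (χ : G → ℂ) η := by
    rw [hndef, deg_eq_sum_mu S hz hχ, ← Finset.sum_add_sum_compl O, Finset.sum_congr rfl hm,
      Finset.sum_const, hcardO, smul_eq_mul]
  have hm0 : 1 ≤ m₀ := Nat.one_le_iff_ne_zero.mpr hl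
  have hle : ee S * 1 ≤ ee S * m₀ := Nat.mul_le_mul_left _ hm0
  have hee : n = ee S := by
    have hpn : ¬ p ∣ n := fun hd => by have := Nat.le_of_dvd (by omega) hd; omega
    obtain ⟨s, hs, hcong⟩ := deg_modEq S hz hM χ hpn
    have hd : (p : ℤ) ∣ s - n := Int.modEq_iff_dvd.mp hcong
    have hsmall : (s - n : ℤ) = 0 := by
      refine Int.eq_zero_of_abs_lt_dvd hd ?_
      have h1 : ee S ≤ n := by omega
      rw [abs_lt]
      constructor <;> rcases hs with h | h | h | h <;> omega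
    rcases hs with h | h | h | h <;> omega
  refine ⟨hee, fun η => ?_⟩
  have hm1 : m₀ = 1 := by
    have h1 : ee S * m₀ ≤ ee S * 1 := by omega
    exact le_antisymm (Nat.le_of_mul_le_mul_left h1 (ee_pos S)) hm0
  split_ifs with hη
  · rw [hm η hη]; exact hm1
  · have h1 : ∑ η ∈ Oᶜ, mu (D1.cC P) (χ : G → ℂ) η = 0 := by rw [hm1, mul_one] at hsum; omega
    exact Finset.sum_eq_zero_iff.mp h1 η (Finset.mem_compl.mpr hη)

include hz in
open Classical in
/-- The character exchanged with `χ` between two orbits. -/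
theorem exists_partner {θ : IrrCharacter (D1.cC P)}
    (hθ : ∀ c : D1.cC P, (c : G) ∈ (P : Subgroup G) → (θ : D1.cC P → ℂ) c = (θ : D1.cC P → ℂ) 1)
    {χ : IrrCharacter G} {c₀ : ZMod p} (hc₀ : c₀ ≠ 0) (hdeg : deg (χ : G → ℂ) = ee S)
    (hμ : ∀ η : IrrCharacter (D1.cC P),
      mu (D1.cC P) (χ : G → ℂ) η = if η ∈ (orbS S c₀).image (D1.Lam S θ) then 1 else 0)
    {x : ZMod p} (hx0 : x ≠ 0) (hx : x ∉ orbS S c₀) :
    ∃ b : IrrCharacter G,
      (∀ f : G → ℂ, IsClassFunction G f → classInner (χ : G → ℂ) f - classInner (b : G → ℂ) f =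
        classInner (D1.Lam S θ c₀ : D1.cC P → ℂ) (fun c : D1.cC P => f c) -
          classInner (D1.Lam S θ x : D1.cC P → ℂ) (fun c : D1.cC P => f c)) ∧
      classInner (fun c : D1.cC P => (b : G → ℂ) c) (fun c : D1.cC P => (χ : G → ℂ) c) = 0 := by
  have hin : ∀ i, D1.Lam S θ i ∈ (orbS S c₀).image (D1.Lam S θ) ↔ i ∈ orbS S c₀ := fun i =>
    ⟨fun h => by obtain ⟨j, hj, e⟩ := Finset.mem_image.mp h; exact D1.Lam_injective S θ hθ e ▸ hj,
      fun h => Finset.mem_image_of_mem _ h⟩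
  have htop := stab_eq_top S hz θ hθ
  have hmlt : ∀ i, D1.mlt S θ χ i = if i ∈ orbS S c₀ then 1 else 0 := fun i => by
    show mu (D1.cC P) (χ : G → ℂ) (D1.Lam S θ i) = _
    rw [hμ]; exact if_congr (hin i) rfl rfl
  have havχ : D1.av S θ χ c₀ = 1 ∧ D1.av S θ χ x = 0 := by
    simp [D1.av, hmlt, self_mem_orbS, zero_notMem_orbS S hc₀, hx]
  -- the Gram matrix on two orbits
  have hgram : ∀ i j : ZMod p, i ≠ 0 → j ≠ 0 →
      ((∑ ξ : IrrCharacter G, D1.av S θ ξ i * D1.av S θ ξ j : ℤ) : ℂ) = (Nat.card (D1.cC P) : ℂ)⁻¹ *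
        ∑ m : D1.cN P, (1 + if i = j * S.u m then (1 : ℂ) else 0) := by
    intro i j hi hj
    push_cast
    rw [D1.gram S θ hθ i j hi hj]
    simp [htop]
  have hsame : ∀ i : ZMod p, i ≠ 0 →
      (Nat.card (D1.cC P) : ℂ)⁻¹ * ∑ m : D1.cN P, (if i = i * S.u m then (1 : ℂ) else 0) = 1 := by
    intro i hi
    rw [Finset.sum_boole, show (Finset.univ.filter fun m : D1.cN P => i = i * S.u m) =
      Finset.univ.filter fun m => S.u m = S.u 1 from Finset.filter_congr fun m _ => by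
        rw [S.u_one, left_eq_mul₀ hi], card_fiber S,
      inv_mul_cancel₀ (Nat.cast_ne_zero.mpr Nat.card_pos.ne')]
  have hdiff : ∀ m : D1.cN P, c₀ ≠ x * S.u m ∧ x ≠ c₀ * S.u m := fun m =>
    ⟨fun e => Finset.disjoint_left.mp (disjoint_orbS S hx) (self_mem_orbS S c₀)
        ((mem_orbS S).mpr ⟨m, e.symm⟩),
      fun e => hx ((mem_orbS S).mpr ⟨m, e.symm⟩)⟩
  set K : ℂ := (Nat.card (D1.cC P) : ℂ)⁻¹ * ∑ _m : D1.cN P, (1 : ℂ) with hK
  have h00 := hgram c₀ c₀ hc₀ hc₀
  have hxx := hgram x x hx0 hx0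
  have h0x := hgram c₀ x hc₀ hx0
  rw [Finset.sum_add_distrib, mul_add, hsame c₀ hc₀] at h00
  rw [Finset.sum_add_distrib, mul_add, hsame x hx0] at hxx
  rw [Finset.sum_add_distrib, mul_add,
    Finset.sum_eq_zero (f := fun m : D1.cN P => if c₀ = x * S.u m then (1 : ℂ) else 0)
      (fun m _ => if_neg (hdiff m).1), mul_zero, add_zero] at h0x
  rw [← hK] at h00 hxx h0x
  set D : IrrCharacter G → ℤ := fun ξ => D1.av S θ ξ c₀ - D1.av S θ ξ x with hD
  have hcross : ∑ ξ, D1.av S θ ξ c₀ * D ξ = 1 := by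
    have : ((∑ ξ, D1.av S θ ξ c₀ * D ξ : ℤ) : ℂ) = ((1 : ℤ) : ℂ) := by
      simp only [hD, mul_sub, Finset.sum_sub_distrib, Int.cast_sub]
      rw [h00, h0x]; push_cast; ring
    exact_mod_cast this
  have hnorm : ∑ ξ, D ξ * D ξ = 2 := by
    have : ((∑ ξ, D ξ * D ξ : ℤ) : ℂ) = ((2 : ℤ) : ℂ) := by
      simp only [hD, mul_sub, sub_mul, Finset.sum_sub_distrib, Int.cast_sub]
      rw [show (∑ ξ, D1.av S θ ξ x * D1.av S θ ξ c₀) = ∑ ξ, D1.av S θ ξ c₀ * D1.av S θ ξ x from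
        Finset.sum_congr rfl fun ξ _ => mul_comm _ _, h00, hxx, h0x]
      push_cast; ring
    exact_mod_cast this
  have hw0 : ∑ ξ : IrrCharacter G, (deg (ξ : G → ℂ) : ℤ) * D ξ = 0 := by
    have h1 : ∀ i, ((∑ ξ : IrrCharacter G, (deg (ξ : G → ℂ) : ℤ) * D1.av S θ ξ i : ℤ) : ℂ) = 0 := by
      intro i
      push_cast
      rw [← D1.sum_av_mul_regular S θ hθ i (g := (1 : G))
        (by rw [orderOf_one]; exact hp.out.not_dvd_one)]
      refine Finset.sum_congr rfl fun ξ _ => ?_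
      rw [deg_eq (isCharacter_of_isIrr ξ.2), mul_comm]
    simp only [hD, mul_sub, Finset.sum_sub_distrib]
    have a := h1 c₀
    have b := h1 x
    rw [Int.cast_eq_zero] at a b
    rw [a, b, sub_zero]
  obtain ⟨a, b, hab, hDe, hwab⟩ := D1.Combi.norm_two hnorm (fun ξ => (deg (ξ : G → ℂ) : ℤ))
    (fun ξ => by exact_mod_cast deg_pos ξ.2) hw0
  have hχD : D χ = 1 := by rw [hD]; simp only [havχ.1, havχ.2]; norm_num
  obtain rfl : χ = a := by
    by_contra hne
    rw [hDe, if_neg hne] at hχD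
    split_ifs at hχD <;> omega
  refine ⟨b, fun f hf => ?_, ?_⟩
  · set Φ : G → ℂ := indFun (D1.cC P) (D1.alpha S θ x) - indFun (D1.cC P) (D1.alpha S θ c₀)
    have hΦc : IsClassFunction G Φ := fun g h => by
      simp only [Φ, Pi.sub_apply, isClassFunction_indFun (D1.cC P) _ g h]
    have hΦ : Φ = (χ : G → ℂ) - (b : G → ℂ) := by
      rw [classFunction_eq_sum hΦc]
      have hc : ∀ ξ : IrrCharacter G, classInner Φ (ξ : G → ℂ) = (D ξ : ℂ) := fun ξ => by
        rw [classInner_sub_left, D1.classInner_indFun_alpha, D1.classInner_indFun_alpha, hD]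
        push_cast; ring
      funext g
      simp [Finset.sum_apply, hc, hDe, sub_mul]
    rw [← classInner_sub_left, ← hΦ, classInner_sub_left, frobenius_reciprocity _ _ hf,
      frobenius_reciprocity _ _ hf]
    show classInner ((D1.Lam S θ 0 : D1.cC P → ℂ) - (D1.Lam S θ x : D1.cC P → ℂ)) _ -
      classInner ((D1.Lam S θ 0 : D1.cC P → ℂ) - (D1.Lam S θ c₀ : D1.cC P → ℂ)) _ = _
    rw [classInner_sub_left, classInner_sub_left]
    ring
  · -- the multiplicities of `b` on the two orbits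
    simp only [hDe, mul_sub, mul_ite, mul_one, mul_zero, Finset.sum_sub_distrib, Finset.sum_ite_eq',
      Finset.mem_univ, if_true, havχ.1] at hcross
    have hb0 : D1.av S θ b c₀ = 0 := by omega
    have hbD : D b = -1 := by rw [hDe]; simp [hab.symm]
    have hbx : D1.av S θ b x = 1 := by simp only [hD] at hbD; omega
    set m₀ := D1.mlt S θ b 0
    have hbO : ∀ i ∈ orbS S c₀, D1.mlt S θ b i = m₀ := by
      intro i hi
      obtain ⟨m, rfl⟩ := (mem_orbS S).mp hi
      rw [D1.mlt_stab S θ hθ (htop ▸ Subgroup.mem_top m)]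
      rw [D1.av] at hb0
      omega
    have hbX : ∀ i ∈ orbS S x, D1.mlt S θ b i = m₀ + 1 := by
      intro i hi
      obtain ⟨m, rfl⟩ := (mem_orbS S).mp hi
      rw [D1.mlt_stab S θ hθ (htop ▸ Subgroup.mem_top m)]
      rw [D1.av] at hbx
      omega
    have hle : ∑ i ∈ orbS S c₀ ∪ orbS S x, D1.mlt S θ b i ≤ deg (b : G → ℂ) := by
      rw [deg_eq_sum_mu S hz (isCharacter_of_isIrr b.2)]
      exact le_trans (le_of_eq (Finset.sum_image (f := fun η => mu (D1.cC P) (b : G → ℂ) η)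
        fun i _ j _ e => D1.Lam_injective S θ hθ e).symm)
        (Finset.sum_le_univ_sum_of_nonneg fun _ => Nat.zero_le _)
    rw [Finset.sum_union (disjoint_orbS S hx), Finset.sum_congr rfl hbO, Finset.sum_congr rfl hbX,
      Finset.sum_const, Finset.sum_const, card_orbS S hc₀, card_orbS S hx0, smul_eq_mul,
      smul_eq_mul] at hle
    have hdb : deg (b : G → ℂ) = ee S := by rw [← hdeg]; exact_mod_cast hwab.symm
    rw [hdb] at hle
    have hm : m₀ = 0 := by nlinarith [ee_pos S]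
    rw [inner_restrict (P := D1.cC P) (isCharacter_of_isIrr b.2) (isCharacter_of_isIrr χ.2),
      Nat.cast_eq_zero]
    refine Finset.sum_eq_zero fun η _ => ?_
    rw [hμ η]
    split_ifs with h
    · obtain ⟨i, hi, rfl⟩ := Finset.mem_image.mp h
      rw [show mu (D1.cC P) (b : G → ℂ) (D1.Lam S θ i) = D1.mlt S θ b i from rfl, hbO i hi, hm,
        zero_mul]
    · rw [mul_zero]

end Cfsg.Agent.CT.SmallFaithful
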