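import Cfsg.Agent.Lib.CT.SmallFaithful.Modular

/-!
# The centralizer of `x` acts by scalars in a simple module with small minimal polynomial
-/

set_option autoImplicit false
set_option linter.unusedSectionVars false

namespace Cfsg.Agent.CT.SmallFaithful

universe u v w

variable {k : Type v} [Field k] {p : ℕ} [hp : Fact p.Prime] [CharP k p]
variable {G : Type u} [Group G] [Finite G]

/-- A fixed vector is a `G`-fixed vector plus an element of the image of `π x - 1`. -/
theorem exists_fixed_sub_mem {E : Type w} [AddCommGroup E] [Module k E] (π : Representation k G E) {x : G}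
    (hx : orderOf x = p) (hsq : ¬ p ^ 2 ∣ Nat.card G) (hgen : Subgroup.normalClosure ({x} : Set G) = ⊤)
    (hs : (π x - 1) ^ (p - 1) = 0) {v : E} (hv : π x v = v) :
    ∃ w : E, (∀ g, π g w = w) ∧ v - w ∈ LinearMap.range (π x - 1 : Module.End k E) := by
  classical
  set F := LinearMap.ker (π x - 1 : Module.End k E)
  set R := LinearMap.range (π x - 1 : Module.End k E)
  set P := Subgroup.zpowers x
  set Nm := Subgroup.normalizer (P : Set G)
  have memF : ∀ {u : E}, u ∈ F ↔ π x u = u := by
    intro u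
    rw [LinearMap.mem_ker, LinearMap.sub_apply, Module.End.one_apply, sub_eq_zero]
  have hFP : ∀ {u : E}, u ∈ F → ∀ y ∈ P, π y u = u := by
    intro u hu y hy
    obtain ⟨i, rfl⟩ := (mem_powers_iff_mem_zpowers (x := x)).mpr hy
    show π (x ^ i) u = u
    induction i with
    | zero => rw [pow_zero, map_one]; rfl
    | succ i ih =>
      rw [pow_succ, map_mul, Module.End.mul_apply, memF.mp hu,
        ih (Subgroup.pow_mem _ (Subgroup.mem_zpowers x) i)]
  have hRP : ∀ y ∈ P, ∀ u : E, π y u - u ∈ R := by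
    intro y hy u
    obtain ⟨i, rfl⟩ := (mem_powers_iff_mem_zpowers (x := x)).mpr hy
    show π (x ^ i) u - u ∈ R
    induction i with
    | zero => rw [pow_zero, map_one, Module.End.one_apply, sub_self]; exact R.zero_mem
    | succ i ih =>
      have h1 : π x (π (x ^ i) u) - π (x ^ i) u ∈ R := ⟨π (x ^ i) u, rfl⟩
      rw [pow_succ', map_mul, Module.End.mul_apply]
      have := R.add_mem h1 (ih (Subgroup.pow_mem _ (Subgroup.mem_zpowers x) i))
      simpa using this
  -- a map onto the fixed space killing `R`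
  set φ : F →ₗ[k] E ⧸ R := R.mkQ ∘ₗ F.subtype
  obtain ⟨σ, hσ⟩ := LinearMap.exists_rightInverse_of_surjective φ.rangeRestrict φ.range_rangeRestrict
  obtain ⟨τ, hτ⟩ := LinearMap.exists_extend σ
  set a₀ : Module.End k E := F.subtype ∘ₗ τ ∘ₗ R.mkQ
  have ha₀F : ∀ u, a₀ u ∈ F := fun u => (τ (R.mkQ u)).2
  have ha₀R : ∀ u ∈ R, a₀ u = 0 := fun u hu => by
    show ((τ (R.mkQ u) : F) : E) = 0
    rw [R.mkQ_apply, (Submodule.Quotient.mk_eq_zero R).mpr hu, map_zero]; rfl
  have ha₀v : ∀ u ∈ F, a₀ u - u ∈ R := fun u hu => by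
    rw [← Submodule.Quotient.eq]
    have h1 : τ (R.mkQ u) = σ (φ.rangeRestrict ⟨u, hu⟩) :=
      LinearMap.congr_fun hτ (φ.rangeRestrict ⟨u, hu⟩)
    have h2 := congrArg Subtype.val (LinearMap.congr_fun hσ (φ.rangeRestrict ⟨u, hu⟩))
    show R.mkQ ((τ (R.mkQ u) : F) : E) = R.mkQ u
    rw [h1]
    exact h2
  have hl₀ : ∀ y ∈ P, π y * a₀ = a₀ := fun y hy => LinearMap.ext fun u => hFP (ha₀F u) y hy
  have hr₀ : ∀ y ∈ P, a₀ * π y = a₀ := fun y hy => LinearMap.ext fun u => by
    have := ha₀R _ (hRP y hy u)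
    rw [map_sub, sub_eq_zero] at this
    exact this
  -- average over the normalizer
  set P' := P.subgroupOf Nm
  haveI : P'.Normal := Subgroup.normal_in_normalizer
  letI := Fintype.ofFinite (Nm ⧸ P')
  set f : Nm ⧸ P' → Module.End k E := fun q => π (q.out : G) * a₀ * π (q.out : G)⁻¹
  have hfmk : ∀ n : Nm, f (n : Nm ⧸ P') = π (n : G) * a₀ * π (n : G)⁻¹ := by
    intro n
    obtain ⟨⟨y, hy⟩, e⟩ := QuotientGroup.mk_out_eq_mul P' n
    show π _ * a₀ * π _⁻¹ = _
    rw [e, Subgroup.coe_mul, mul_inv_rev, map_mul, map_mul, mul_assoc (π (n : G)),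
      hl₀ _ (Subgroup.mem_subgroupOf.mp hy), ← mul_assoc, mul_assoc (π (n : G)),
      hr₀ _ (P.inv_mem (Subgroup.mem_subgroupOf.mp hy))]
  set a₁ : Module.End k E := ((Nat.card (Nm ⧸ P') : k))⁻¹ • ∑ q, f q
  have hNF : ∀ n ∈ Nm, ∀ u ∈ F, π n u ∈ F := by
    intro n hn u hu
    rw [memF]
    have hy : n⁻¹ * x * n ∈ P := by
      simpa using (Subgroup.mem_normalizer_iff.mp (Nm.inv_mem hn) x).mp (Subgroup.mem_zpowers x)
    have h1 := hFP hu _ hy
    rw [← Module.End.mul_apply, ← map_mul, show x * n = n * (n⁻¹ * x * n) by group, map_mul,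
      Module.End.mul_apply, h1]
  have hNR : ∀ n ∈ Nm, ∀ u ∈ R, π n u ∈ R := by
    rintro n hn u ⟨w, rfl⟩
    have hy : n * x * n⁻¹ ∈ P := (Subgroup.mem_normalizer_iff.mp hn x).mp (Subgroup.mem_zpowers x)
    have h1 := hRP _ hy (π n w)
    rw [← Module.End.mul_apply, ← map_mul, show n * x * n⁻¹ * n = n * x by group, map_mul,
      Module.End.mul_apply, ← map_sub] at h1
    exact h1
  have ha₁F : ∀ u, a₁ u ∈ F := fun u => by
    rw [LinearMap.smul_apply, LinearMap.sum_apply]
    exact F.smul_mem _ (F.sum_mem fun q _ => hNF _ q.out.2 _ (ha₀F _))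
  have ha₁R : ∀ u ∈ R, a₁ u = 0 := fun u hu => by
    rw [LinearMap.smul_apply, LinearMap.sum_apply, Finset.sum_eq_zero fun q _ => ?_, smul_zero]
    show π _ (a₀ (π _ u)) = 0
    rw [ha₀R _ (hNR _ (Nm.inv_mem q.out.2) u hu), map_zero]
  have hcard : ((Nat.card (Nm ⧸ P') : k)) ≠ 0 := by
    rw [Ne, CharP.cast_eq_zero_iff k p]
    intro hd
    apply hsq
    refine dvd_trans ?_ (Subgroup.card_subgroup_dvd_card Nm)
    rw [← P'.card_mul_index, Subgroup.index_eq_card,
      Nat.card_congr (Subgroup.subgroupOfEquivOfLe (Subgroup.le_normalizer (H := P))).toEquiv,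
      Nat.card_zpowers, hx, sq]
    exact mul_dvd_mul_left p hd
  have ha₁v : ∀ u ∈ F, a₁ u - u ∈ R := fun u hu => by
    have e : u = (Nat.card (Nm ⧸ P') : k)⁻¹ • ∑ _q : Nm ⧸ P', u := by
      rw [Finset.sum_const, Finset.card_univ, ← Nat.card_eq_fintype_card, ← Nat.cast_smul_eq_nsmul k,
        inv_smul_smul₀ hcard]
    rw [LinearMap.smul_apply, LinearMap.sum_apply]
    conv => enter [2, 2]; rw [e]
    rw [← smul_sub, ← Finset.sum_sub_distrib]
    refine R.smul_mem _ (R.sum_mem fun q _ => ?_)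
    have h1 := hNR _ q.out.2 _ (ha₀v _ (hNF _ (Nm.inv_mem q.out.2) u hu))
    rw [map_sub, show π (q.out : G) (π (q.out : G)⁻¹ u) = u by
      rw [← Module.End.mul_apply, ← map_mul, mul_inv_cancel, map_one, Module.End.one_apply]] at h1
    exact h1
  have hN₁ : ∀ n ∈ Nm, π n * a₁ = a₁ * π n := by
    intro n hn
    have e : π n * (∑ q, f q) * π n⁻¹ = ∑ q, f q := by
      rw [Finset.mul_sum, Finset.sum_mul]
      refine Fintype.sum_equiv (MulAction.toPerm (⟨n, hn⟩ : Nm)) _ _ fun q => ?_
      induction q using QuotientGroup.induction_on with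
      | _ r =>
        show _ = f (((⟨n, hn⟩ : Nm) * r : Nm) : Nm ⧸ P')
        rw [hfmk, hfmk, Subgroup.coe_mul, mul_inv_rev, map_mul, map_mul]
        simp only [mul_assoc]
    rw [mul_smul_comm, smul_mul_assoc]
    congr 1
    conv_rhs => rw [← e]
    rw [mul_assoc, ← map_mul, inv_mul_cancel, map_one, mul_one]
  set a : Module.End k E := a₁ * a₁
  have haF : ∀ u, a u ∈ F := fun u => ha₁F _
  have haR : ∀ u ∈ R, a u = 0 := fun u hu => by
    show a₁ (a₁ u) = 0
    rw [ha₁R u hu, map_zero]
  have hav : ∀ u ∈ F, a u - u ∈ R := fun u hu => by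
    have := R.add_mem (ha₁v _ (ha₁F u)) (ha₁v u hu)
    rwa [sub_add_sub_cancel] at this
  have h3 : ∀ u, a₁ (a₁ (a₁ u)) = a₁ (a₁ u) := fun u => by
    have := ha₁R _ (ha₁v _ (ha₁F u))
    rwa [map_sub, sub_eq_zero] at this
  have hidem : a * a = a := LinearMap.ext fun u => by
    show a₁ (a₁ (a₁ (a₁ u))) = a₁ (a₁ u)
    rw [h3, h3]
  have hlift := lift_endo π hx hsq hs (a := a)
    (fun n hn => ((show Commute (π n) a₁ from hN₁ n hn).mul_right (hN₁ n hn)).eq)
    (LinearMap.ext fun u => memF.mp (haF u))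
    (LinearMap.ext fun u => by
      have := haR _ (hRP x (Subgroup.mem_zpowers x) u)
      rw [map_sub, sub_eq_zero] at this
      exact this) hidem
  refine ⟨a v, fun g => ?_, ?_⟩
  · let St : Subgroup G :=
      { carrier := {g | π g (a v) = a v}
        one_mem' := by simp
        mul_mem' := fun {g h} hg hh => by
          show π (g * h) (a v) = a v
          rw [map_mul, Module.End.mul_apply, hh, hg]
        inv_mem' := fun {g} hg => by
          show π g⁻¹ (a v) = a v
          conv_lhs => rw [← (hg : π g (a v) = a v)]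
          rw [← Module.End.mul_apply, ← map_mul, inv_mul_cancel, map_one, Module.End.one_apply] }
    have hle : Subgroup.normalClosure ({x} : Set G) ≤ St := by
      rw [Subgroup.normalClosure, Subgroup.closure_le]
      intro y hy
      obtain ⟨z, hz, hzy⟩ := Group.mem_conjugatesOfSet_iff.mp hy
      rw [Set.mem_singleton_iff] at hz
      subst hz
      obtain ⟨c, rfl⟩ := isConj_iff.mp hzy
      show π (c * z * c⁻¹) (a v) = a v
      have e1 : π c⁻¹ (a v) = a (π c⁻¹ v) := LinearMap.congr_fun (hlift c⁻¹) v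
      rw [map_mul, map_mul, Module.End.mul_apply, Module.End.mul_apply, e1, memF.mp (haF _), ← e1,
        ← Module.End.mul_apply, ← map_mul, mul_inv_cancel, map_one, Module.End.one_apply]
    exact (hgen ▸ hle) (Subgroup.mem_top g)
  · have := R.neg_mem (hav v (memF.mpr hv))
    rwa [neg_sub] at this

variable {H : Type w} [AddCommGroup H] [Module k H]

omit hp in
/-- The powers of the derivation induced on endomorphisms. -/
theorem linHom_sub_one_pow (π : Representation k G H) {x : G} {s : ℕ} (hs : (π x - 1) ^ s = 0)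
    (h2 : 2 * s ≤ p) : (π.linHom π x - 1) ^ (p - 1) = 0 := by
  have e : π.linHom π x - 1 =
      LinearMap.mulLeft k (π x - 1) * LinearMap.mulRight k (π x⁻¹) +
        LinearMap.mulRight k (π x⁻¹ - 1) := by
    refine LinearMap.ext fun f => ?_
    simp only [LinearMap.sub_apply, Module.End.one_apply, LinearMap.add_apply, Module.End.mul_apply,
      LinearMap.mulLeft_apply, LinearMap.mulRight_apply]
    show π x * f * π x⁻¹ - f = _
    noncomm_ring
  have hinv : (π x⁻¹ - 1) ^ s = 0 := by
    have e2 : π x⁻¹ - 1 = -((π x - 1) * π x⁻¹) := by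
      rw [sub_mul, ← map_mul, mul_inv_cancel, map_one, one_mul, neg_sub]
    have hc : Commute (π x - 1) (π x⁻¹) := by
      refine Commute.sub_left ?_ (Commute.one_left _)
      show π x * π x⁻¹ = π x⁻¹ * π x
      rw [← map_mul, ← map_mul, mul_inv_cancel, inv_mul_cancel]
    rw [e2, neg_pow, hc.mul_pow, hs, zero_mul, mul_zero]
  rw [e]
  refine Commute.add_pow_eq_zero_of_add_le_succ_of_pow_eq_zero (m := s) (n := s) ?_ ?_ ?_ (by omega)
  · refine Commute.mul_left (LinearMap.commute_mulLeft_right _ _) ?_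
    refine LinearMap.ext fun f => ?_
    simp only [Module.End.mul_apply, LinearMap.mulRight_apply, mul_assoc]
    congr 1
    have : Commute (π x⁻¹) (π x⁻¹ - 1) := (Commute.refl _).sub_right (Commute.one_right _)
    exact this.eq.symm
  · rw [Commute.mul_pow (LinearMap.commute_mulLeft_right _ _), LinearMap.pow_mulLeft, hs]
    simp
  · rw [LinearMap.pow_mulRight, hinv]
    simp

variable [IsAlgClosed k] [FiniteDimensional k H]

/-- Idempotents commuting with `π x` are trivial. -/
theorem commutant_idem (π : Representation k G H) {x : G} (hx : orderOf x = p)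
    (hsq : ¬ p ^ 2 ∣ Nat.card G) (hgen : Subgroup.normalClosure ({x} : Set G) = ⊤) {s : ℕ}
    (hs : (π x - 1) ^ s = 0) (h2 : 2 * s ≤ p)
    (hschur : ∀ φ : Module.End k H, (∀ g, π g * φ = φ * π g) → ∃ c : k, φ = c • 1)
    {e : Module.End k H} (hec : π x * e = e * π x) (he : e * e = e) : e = 0 ∨ e = 1 := by
  have hP := linHom_sub_one_pow (p := p) π hs h2
  have hXX : π x * π x⁻¹ = 1 := by rw [← map_mul, mul_inv_cancel, map_one]
  have hXX' : π x⁻¹ * π x = 1 := by rw [← map_mul, inv_mul_cancel, map_one]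
  obtain ⟨w, hw, b, hb⟩ := exists_fixed_sub_mem (π.linHom π) hx hsq hgen hP (v := e) (by
    show π x * (e * π x⁻¹) = e
    rw [← mul_assoc, hec, mul_assoc, hXX, mul_one])
  obtain ⟨c, rfl⟩ := hschur w fun g => by
    have h1 : π g * (w * π g⁻¹) = w := hw g
    conv_rhs => rw [← h1]
    rw [mul_assoc, mul_assoc, ← map_mul, inv_mul_cancel, map_one, mul_one]
  replace hb : π x * b * π x⁻¹ - b = e - c • 1 := by rw [← hb]; rfl
  -- an idempotent in the image of the derivation vanishes
  have key : ∀ (f b' : Module.End k H), π x * f = f * π x → f * f = f →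
      π x * b' * π x⁻¹ - b' = f → f = 0 := by
    intro f b' hfc hff hfb
    set c' := f * b' * f with hc'
    have hfX' : π x⁻¹ * f = f * π x⁻¹ := by
      calc π x⁻¹ * f = π x⁻¹ * f * (π x * π x⁻¹) := by rw [hXX, mul_one]
        _ = π x⁻¹ * (π x * f) * π x⁻¹ := by rw [hfc]; noncomm_ring
        _ = f * π x⁻¹ := by rw [← mul_assoc (π x⁻¹), hXX', one_mul]
    have hcc : π x * c' * π x⁻¹ = c' + f := by
      calc π x * c' * π x⁻¹ = (π x * f) * b' * (f * π x⁻¹) := by rw [hc']; noncomm_ring
        _ = f * (π x * b' * π x⁻¹) * f := by rw [hfc, ← hfX']; noncomm_ring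
        _ = f * (b' + f) * f := by rw [show π x * b' * π x⁻¹ = b' + f by rw [← hfb]; abel]
        _ = c' + f := by rw [hc', mul_add, add_mul, hff, hff]
    have hcX : c' * π x = π x * c' - f * π x := by
      have : π x * c' = (c' + f) * π x := by
        rw [← hcc, mul_assoc _ (π x⁻¹), hXX', mul_one]
      rw [this, add_mul]; abel
    by_contra hf0
    set U := LinearMap.range f
    have hU : ∀ u, u ∈ U ↔ f u = u := fun u =>
      ⟨fun ⟨z, hz⟩ => by rw [← hz, ← Module.End.mul_apply, hff], fun h => ⟨u, h⟩⟩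
    haveI : Nontrivial U := by
      rw [Submodule.nontrivial_iff_ne_bot]
      exact fun h => hf0 (LinearMap.range_eq_bot.mp h)
    have hfc' : f * c' = c' := by rw [hc', ← mul_assoc, ← mul_assoc, hff]
    have hst : ∀ u ∈ U, c' u ∈ U := fun u _ => (hU _).mpr (by rw [← Module.End.mul_apply, hfc'])
    obtain ⟨μ, hμ⟩ := Module.End.exists_eigenvalue (c'.restrict hst)
    obtain ⟨u, hu⟩ := hμ.exists_hasEigenvector
    have hcu : c' (u : H) = μ • (u : H) := congrArg Subtype.val hu.apply_eq_smul
    have hfu : f (u : H) = u := (hU _).mp u.2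
    have hu0 : (u : H) ≠ 0 := fun h => hu.2 (Subtype.ext h)
    set X := π x with hX
    have heig : ∀ i : ℕ, c' ((X ^ i) (u : H)) = (μ - i) • (X ^ i) (u : H) ∧
        f ((X ^ i) (u : H)) = (X ^ i) (u : H) := by
      intro i
      induction i with
      | zero => simp [hcu, hfu]
      | succ i ih =>
        refine ⟨?_, ?_⟩
        · rw [pow_succ' X]
          show (c' * X) ((X ^ i) (u : H)) = _ • X ((X ^ i) (u : H))
          rw [hcX, LinearMap.sub_apply, Module.End.mul_apply X c', Module.End.mul_apply f X, ih.1,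
            map_smul]
          rw [show f (X ((X ^ i) (u : H))) = X ((X ^ i) (u : H)) by
            rw [← Module.End.mul_apply, ← hfc, Module.End.mul_apply, ih.2]]
          push_cast
          module
        · rw [pow_succ', Module.End.mul_apply, ← Module.End.mul_apply, ← hfc, Module.End.mul_apply,
            ih.2]
    have hXne : ∀ i : ℕ, (X ^ i) (u : H) ≠ 0 := fun i h => hu0 (by
      have := congrArg ((π x⁻¹) ^ i) h
      rwa [map_zero, ← Module.End.mul_apply, ← (show Commute (π x⁻¹) X from hXX'.trans hXX.symm).mul_pow,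
        hXX', one_pow, Module.End.one_apply] at this)
    have hind := Module.End.eigenvectors_linearIndependent' c' (fun i : Fin p => μ - ((i : ℕ) : k))
      (fun i j h => Fin.ext (CharP.natCast_injOn_Iio k p i.2 j.2 (sub_right_injective h)))
      (fun i : Fin p => (X ^ (i : ℕ)) (u : H))
      (fun i => ⟨Module.End.mem_eigenspace_iff.mpr (heig i).1, hXne i⟩)
    have hz : ∑ i : Fin p, (1 : k) • (X ^ (i : ℕ)) (u : H) = 0 := by
      simp only [one_smul]
      rw [Fin.sum_univ_eq_sum_range (fun i => (X ^ i) (u : H)), ← LinearMap.sum_apply,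
        geom_sum_eq_pow (k := k), pow_eq_zero_of_le (by omega) hs, LinearMap.zero_apply]
    exact one_ne_zero (Fintype.linearIndependent_iff.mp hind (fun _ => 1) hz ⟨0, hp.out.pos⟩)
  rcases eq_or_ne c 0 with rfl | hc
  · exact Or.inl (key e b hec he (by rw [hb, zero_smul, sub_zero]))
  · right
    have hc1 : π x * (1 - e) = (1 - e) * π x := by rw [mul_sub, sub_mul, mul_one, one_mul, hec]
    have h1 : (1 - e) * (1 - e) = 1 - e := by
      rw [mul_sub, sub_mul, sub_mul, one_mul, mul_one, one_mul, he]; abel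
    have := key (1 - e) (-c⁻¹ • ((1 - e) * b)) hc1 h1 ?_
    · rwa [sub_eq_zero, eq_comm] at this
    · rw [mul_smul_comm, smul_mul_assoc, ← mul_assoc, hc1, ← smul_sub,
        mul_assoc (1 - e), mul_assoc (1 - e), ← mul_sub, hb, mul_sub, mul_smul_comm, mul_one,
        show (1 - e) * e = 0 by rw [sub_mul, one_mul, he, sub_self], zero_sub, smul_neg, neg_smul,
        neg_neg, smul_smul, inv_mul_cancel₀ hc, one_smul]

/-- `p'`-elements centralizing `x` act by scalars. -/
theorem centralizer_scalar (π : Representation k G H) {x : G} (hx : orderOf x = p)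
    (hsq : ¬ p ^ 2 ∣ Nat.card G) (hgen : Subgroup.normalClosure ({x} : Set G) = ⊤) {s : ℕ}
    (hs : (π x - 1) ^ s = 0) (h2 : 2 * s ≤ p) [Nontrivial H]
    (hschur : ∀ φ : Module.End k H, (∀ g, π g * φ = φ * π g) → ∃ c : k, φ = c • 1)
    {v : G} (hv : Commute x v) (hvp : ¬ p ∣ orderOf v) : ∃ c : k, π v = c • 1 := by
  obtain ⟨μ, hμ⟩ := Module.End.exists_eigenvalue (π v)
  obtain ⟨u, hu⟩ := hμ.exists_hasEigenvector
  set m := orderOf v
  have hm : (m : k) ≠ 0 := by rwa [Ne, CharP.cast_eq_zero_iff k p]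
  have hpow : ∀ i : ℕ, (π v ^ i) u = μ ^ i • u := fun i => hu.pow_apply i
  have hvm : π v ^ m = 1 := by rw [← map_pow, pow_orderOf_eq_one, map_one]
  have hμm : μ ^ m = 1 := by
    have h1 := hpow m
    rw [hvm, Module.End.one_apply] at h1
    have h2 : (μ ^ m - 1) • u = 0 := by rw [sub_smul, one_smul, ← h1, sub_self]
    exact sub_eq_zero.mp ((smul_eq_zero.mp h2).resolve_right hu.2)
  have hμ0 : μ ≠ 0 := fun h => by
    rw [h, zero_pow (orderOf_pos v).ne'] at hμm
    exact zero_ne_one hμm
  set V : Module.End k H := μ⁻¹ • π v with hV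
  have hVm : V ^ m = 1 := by rw [hV, smul_pow, inv_pow, hμm, inv_one, one_smul, hvm]
  set e : Module.End k H := (m : k)⁻¹ • ∑ i ∈ Finset.range m, V ^ i with he
  have hVe : V * e = e := by
    rw [he, mul_smul_comm, Finset.mul_sum]
    congr 1
    simp only [← pow_succ']
    have h1 := Finset.sum_range_succ' (fun i => V ^ i) m
    rw [Finset.sum_range_succ, hVm, pow_zero] at h1
    exact (add_right_cancel h1).symm
  have hVie : ∀ i : ℕ, V ^ i * e = e := by
    intro i
    induction i with
    | zero => rw [pow_zero, one_mul]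
    | succ i ih => rw [pow_succ, mul_assoc, hVe, ih]
  have hee : e * e = e := by
    conv_lhs => arg 1; rw [he]
    rw [smul_mul_assoc, Finset.sum_mul, Finset.sum_congr rfl fun i _ => hVie i, Finset.sum_const,
      Finset.card_range, ← Nat.cast_smul_eq_nsmul k, inv_smul_smul₀ hm]
  have hxV : Commute (π x) V := ((hv.map π : Commute (π x) (π v))).smul_right _
  have hec : π x * e = e * π x :=
    ((Commute.sum_right _ _ _ fun i _ => hxV.pow_right i).smul_right (m : k)⁻¹).eq
  have heu : e u = u := by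
    rw [he, LinearMap.smul_apply, LinearMap.sum_apply, Finset.sum_congr rfl fun i _ => (show (V ^ i) u = u by
      rw [hV, smul_pow, LinearMap.smul_apply, hpow, smul_smul, ← mul_pow, inv_mul_cancel₀ hμ0,
        one_pow, one_smul]), Finset.sum_const, Finset.card_range, ← Nat.cast_smul_eq_nsmul k,
      inv_smul_smul₀ hm]
  rcases commutant_idem π hx hsq hgen hs h2 hschur hec hee with h | h
  · rw [h, LinearMap.zero_apply] at heu
    exact absurd heu.symm hu.2
  · refine ⟨μ, ?_⟩
    rw [h, mul_one] at hVe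
    rw [← hVe, hV, smul_smul, mul_inv_cancel₀ hμ0, one_smul]

end Cfsg.Agent.CT.SmallFaithful
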